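import Mathlib
import Cfsg.Agent.StdRank2.OutL3Je

/-!
# The type homomorphism `N_G(A) → Aut(F) × {±1}` for `A` of type `L₃(F)`

`typ : Aut(PSL₃(F)) →* Aut(F) × {±1}` with kernel the inner-diagonal automorphisms; `om fr y` is the type of
`y ∈ N_G(A)`.  It is invariant under conjugation by all of `N_G(A)`.
-/

set_option autoImplicit false

namespace Cfsg.Agent.StdRank2.L3W6.Types

open Matrix
open Cfsg.Agent.ClassicalGeometry.AutPSL.Root
open Cfsg.Agent.ClassicalGeometry.AutPSL.Auto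
open Cfsg.Agent.ClassicalGeometry.AutPSL.Main
open Cfsg.Agent.StdRank2.OutL3
open Cfsg.Agent.StdRank2.OutAct hiding cj
open Cfsg.Agent.StdRank2.OutL3Rel Cfsg.Agent.StdRank2.OutL3Inv Cfsg.Agent.StdRank2.OutL3Je

section Rules

variable {ι F : Type*} [Fintype ι] [DecidableEq ι] [Field F]

/-- field automorphism applied to an invertible matrix -/
def mapGL (σ : F ≃+* F) (C : GL ι F) : GL ι F :=
  Matrix.GeneralLinearGroup.map (σ : F →+* F) C

theorem fld_mul_cj (σ : F ≃+* F) (C : GL ι F) : fld σ * cj C = cj (mapGL σ C) * fld σ := by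
  apply MulEquiv.ext
  intro g
  apply Subtype.ext
  have h1 : ((mapGL σ C : GL ι F) : Matrix ι ι F) = (C : Matrix ι ι F).map σ := rfl
  have h2 : (((mapGL σ C)⁻¹ : GL ι F) : Matrix ι ι F) = ((C⁻¹ : GL ι F) : Matrix ι ι F).map σ := rfl
  rw [MulAut.mul_apply, MulAut.mul_apply, coe_cj, h1, h2]
  have h3 : ((fld σ (cj C g) : Matrix.SpecialLinearGroup ι F) : Matrix ι ι F) =
      ((cj C g : Matrix.SpecialLinearGroup ι F) : Matrix ι ι F).map σ := rfl
  have h4 : ((fld σ g : Matrix.SpecialLinearGroup ι F) : Matrix ι ι F) =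
      (g : Matrix ι ι F).map σ := rfl
  rw [h3, h4, coe_cj]
  have h5 : ∀ P Q : Matrix ι ι F, (P * Q).map σ = P.map σ * Q.map σ := fun P Q =>
    Matrix.map_mul (f := (σ : F →+* F))
  rw [h5, h5]

/-- inverse transpose of an invertible matrix -/
def trGL (C : GL ι F) : GL ι F :=
  ⟨((C⁻¹ : GL ι F) : Matrix ι ι F)ᵀ, (C : Matrix ι ι F)ᵀ, by
    rw [← Matrix.transpose_mul, ← Units.val_mul, mul_inv_cancel, Units.val_one, Matrix.transpose_one], by
    rw [← Matrix.transpose_mul, ← Units.val_mul, inv_mul_cancel, Units.val_one, Matrix.transpose_one]⟩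

theorem itr_mul_cj (C : GL ι F) : itr * cj C = cj (trGL C) * itr := by
  apply MulEquiv.ext
  intro g
  apply Subtype.ext
  have h1 : ((trGL C : GL ι F) : Matrix ι ι F) = ((C⁻¹ : GL ι F) : Matrix ι ι F)ᵀ := rfl
  have h2 : (((trGL C)⁻¹ : GL ι F) : Matrix ι ι F) = (C : Matrix ι ι F)ᵀ := rfl
  rw [MulAut.mul_apply, MulAut.mul_apply, coe_cj, h1, h2, coe_itr, coe_itr, ← map_inv, coe_cj,
    Matrix.transpose_mul, Matrix.transpose_mul, mul_assoc]

theorem itr_mul_fld (σ : F ≃+* F) : (itr * fld σ : MulAut (Matrix.SpecialLinearGroup ι F)) = fld σ * itr := by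
  apply MulEquiv.ext
  intro g
  apply Subtype.ext
  rw [MulAut.mul_apply, MulAut.mul_apply, coe_itr, ← map_inv]
  rfl

/-- powers of the inverse transpose -/
def it (ε : ℤˣ) : MulAut (Matrix.SpecialLinearGroup ι F) := if ε = 1 then 1 else itr

theorem it_one : (it 1 : MulAut (Matrix.SpecialLinearGroup ι F)) = 1 := if_pos rfl

theorem it_neg_one : (it (-1) : MulAut (Matrix.SpecialLinearGroup ι F)) = itr := if_neg (by decide)

theorem it_mul (ε δ : ℤˣ) : (it (ε * δ) : MulAut (Matrix.SpecialLinearGroup ι F)) = it ε * it δ := by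
  rcases Int.units_eq_one_or ε with rfl | rfl <;> rcases Int.units_eq_one_or δ with rfl | rfl
  · rw [mul_one, it_one, mul_one]
  · rw [one_mul, it_one, one_mul]
  · rw [mul_one, it_one, mul_one]
  · rw [it_neg_one, itr_mul_itr, ← it_one]
    rfl

theorem it_mul_cj (ε : ℤˣ) (C : GL ι F) : ∃ D : GL ι F, it ε * cj C = cj D * it ε := by
  rcases Int.units_eq_one_or ε with rfl | rfl
  · exact ⟨C, by rw [it_one, mul_one, one_mul]⟩
  · exact ⟨trGL C, by rw [it_neg_one, itr_mul_cj]⟩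

theorem it_mul_fld (ε : ℤˣ) (σ : F ≃+* F) :
    (it ε * fld σ : MulAut (Matrix.SpecialLinearGroup ι F)) = fld σ * it ε := by
  rcases Int.units_eq_one_or ε with rfl | rfl
  · rw [it_one, mul_one, one_mul]
  · rw [it_neg_one, itr_mul_fld]

end Rules

section Typ

variable {F : Type*} [Field F]

/-- `α` has type `(σ, ε)`. -/
def HasTy (α : MulAut (Matrix.ProjectiveSpecialLinearGroup (Fin 3) F)) (p : (F ≃+* F) × ℤˣ) : Prop :=
  ∃ C : GL (Fin 3) F, α = lift (cj C * fld p.1 * it p.2)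

theorem HasTy.mul {α β : MulAut (Matrix.ProjectiveSpecialLinearGroup (Fin 3) F)} {p q : (F ≃+* F) × ℤˣ}
    (h1 : HasTy α p) (h2 : HasTy β q) : HasTy (α * β) (p * q) := by
  obtain ⟨C, rfl⟩ := h1
  obtain ⟨D, rfl⟩ := h2
  obtain ⟨D', hD'⟩ := it_mul_cj p.2 D
  refine ⟨C * mapGL p.1 D', ?_⟩
  rw [← map_mul]
  congr 1
  calc cj C * fld p.1 * it p.2 * (cj D * fld q.1 * it q.2)
      = cj C * fld p.1 * (it p.2 * cj D) * fld q.1 * it q.2 := by simp only [mul_assoc]
    _ = cj C * (fld p.1 * cj D') * (it p.2 * fld q.1) * it q.2 := by rw [hD']; simp only [mul_assoc]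
    _ = cj C * cj (mapGL p.1 D') * (fld p.1 * fld q.1) * (it p.2 * it q.2) := by
        rw [fld_mul_cj, it_mul_fld]; simp only [mul_assoc]
    _ = cj (C * mapGL p.1 D') * fld (p * q).1 * it (p * q).2 := by
        rw [← map_mul, ← map_mul, ← it_mul]; rfl

theorem HasTy.unique {α : MulAut (Matrix.ProjectiveSpecialLinearGroup (Fin 3) F)} {p q : (F ≃+* F) × ℤˣ}
    (h1 : HasTy α p) (h2 : HasTy α q) : p = q := by
  obtain ⟨C, h1⟩ := h1
  obtain ⟨D, h2⟩ := h2
  have hmain : ∀ (C D : GL (Fin 3) F) (σ τ : F ≃+* F),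
      lift (cj C * fld σ * itr) = lift (cj D * fld τ) → False := by
    intro C D σ τ h
    apply not_graph (ι := Fin 3) (by simp) (C := D⁻¹ * C) (σ := σ) (τ := τ)
    rw [map_mul cj, map_inv, mul_assoc, mul_assoc, map_mul, ← mul_assoc (cj C), h, ← map_mul, ← mul_assoc,
      inv_mul_cancel, one_mul]
  have hmain' : ∀ (C D : GL (Fin 3) F) (σ τ : F ≃+* F),
      lift (cj C * fld σ) = lift (cj D * fld τ) → σ = τ := by
    intro C D σ τ h
    apply (injective_aux (ι := Fin 3) (C := D⁻¹ * C) (σ := σ) (τ := τ) ?_).2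
    rw [map_mul cj, map_inv, mul_assoc, map_mul, h, ← map_mul, ← mul_assoc, inv_mul_cancel, one_mul]
  obtain ⟨σ, ε⟩ := p
  obtain ⟨τ, δ⟩ := q
  rcases Int.units_eq_one_or ε with rfl | rfl <;> rcases Int.units_eq_one_or δ with rfl | rfl
  · rw [h1, it_one, mul_one, mul_one] at h2
    exact Prod.ext (hmain' _ _ _ _ h2) rfl
  · exfalso
    rw [h1, it_one, mul_one, it_neg_one] at h2
    exact hmain _ _ _ _ h2.symm
  · exfalso
    rw [h1, it_one, mul_one, it_neg_one] at h2
    exact hmain _ _ _ _ h2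
  · rw [h1, it_neg_one, map_mul lift, map_mul lift (_ * _) itr] at h2
    exact Prod.ext (hmain' _ _ _ _ (mul_right_cancel h2)) rfl

variable [Finite F] [CharP F 2]

theorem HasTy.exists (α : MulAut (Matrix.ProjectiveSpecialLinearGroup (Fin 3) F)) :
    ∃ p, HasTy α p := by
  have : Fact (Nat.Prime 2) := ⟨Nat.prime_two⟩
  have := Fintype.ofFinite F
  rcases surj_three 2 le_rfl α with ⟨C, σ, hC⟩ | ⟨C, σ, hC⟩
  · exact ⟨(σ, 1), C, by rw [hC, it_one, mul_one]⟩
  · exact ⟨(σ, -1), C, by rw [hC, it_neg_one]⟩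

/-- **The type homomorphism.** -/
noncomputable def typ : MulAut (Matrix.ProjectiveSpecialLinearGroup (Fin 3) F) →* (F ≃+* F) × ℤˣ where
  toFun α := (HasTy.exists α).choose
  map_one' := (HasTy.exists 1).choose_spec.unique ⟨1, by
    show (1 : MulAut (Matrix.ProjectiveSpecialLinearGroup (Fin 3) F)) = lift (cj 1 * fld 1 * it 1)
    rw [it_one, map_one, map_one, mul_one, mul_one, map_one]⟩
  map_mul' α β := (HasTy.exists (α * β)).choose_spec.unique
    ((HasTy.exists α).choose_spec.mul (HasTy.exists β).choose_spec)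

theorem typ_eq {α : MulAut (Matrix.ProjectiveSpecialLinearGroup (Fin 3) F)} {p : (F ≃+* F) × ℤˣ}
    (h : HasTy α p) : typ α = p :=
  (HasTy.exists α).choose_spec.unique h

omit [Finite F] [CharP F 2] in
theorem conj_pr (x : Matrix.SpecialLinearGroup (Fin 3) F) :
    (MulAut.conj (pr x) : MulAut (Matrix.ProjectiveSpecialLinearGroup (Fin 3) F)) =
      lift (cj (Matrix.SpecialLinearGroup.toGL x)) := by
  apply MulEquiv.ext
  intro y
  obtain ⟨y, rfl⟩ := pr_surjective y
  rw [MulAut.conj_apply, ← map_inv, ← map_mul, ← map_mul, lift_pr]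
  congr 1

theorem typ_conj (x : Matrix.ProjectiveSpecialLinearGroup (Fin 3) F) : typ (MulAut.conj x) = 1 := by
  obtain ⟨x, rfl⟩ := pr_surjective x
  apply typ_eq
  refine ⟨Matrix.SpecialLinearGroup.toGL x, ?_⟩
  show _ = lift (_ * fld 1 * it 1)
  rw [it_one, map_one, mul_one, mul_one, conj_pr]

theorem typ_fd (σ : F ≃+* F) : typ (fd σ) = (σ, 1) := by
  apply typ_eq
  refine ⟨1, ?_⟩
  show lift (fld σ) = lift (cj 1 * fld σ * it 1)
  rw [map_one, it_one, one_mul, mul_one]

theorem typ_gr : typ (gr : MulAut (Matrix.ProjectiveSpecialLinearGroup (Fin 3) F)) = (1, -1) := by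
  apply typ_eq
  refine ⟨J, ?_⟩
  show lift (cj J * itr) = lift (cj J * fld 1 * it (-1))
  rw [map_one, mul_one, it_neg_one]

omit [Finite F] [CharP F 2] in
/-- the group of types is commutative -/
theorem ty_comm [Finite F] [CharP F 2] (p q : (F ≃+* F) × ℤˣ) : p * q = q * p :=
  Prod.ext (OutField.comm p.1 q.1) (mul_comm p.2 q.2)

end Typ

section Om

variable {F : Type*} [Field F] [Finite F] [CharP F 2] {G : Type*} [Group G] {A : Subgroup G}
  (fr : FrameL3 A F)

open Classical in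
/-- **The type of an element of `N_G(A)`** (with value `1` outside). -/
noncomputable def om (y : G) : (F ≃+* F) × ℤˣ :=
  if h : y ∈ Subgroup.normalizer (A : Set G) then typ (act A fr.e ⟨y, h⟩) else 1

theorem om_eq {y : G} (h : y ∈ Subgroup.normalizer (A : Set G)) : om fr y = typ (act A fr.e ⟨y, h⟩) :=
  dif_pos h

theorem om_one : om fr 1 = 1 := by
  rw [om_eq fr (one_mem _)]
  have : (⟨1, one_mem _⟩ : ↥(Subgroup.normalizer (A : Set G))) = 1 := rfl
  rw [this, map_one, map_one]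

theorem om_mul {y z : G} (hy : y ∈ Subgroup.normalizer (A : Set G)) (hz : z ∈ Subgroup.normalizer (A : Set G)) :
    om fr (y * z) = om fr y * om fr z := by
  rw [om_eq fr hy, om_eq fr hz, om_eq fr (mul_mem hy hz), ← map_mul, ← map_mul]
  rfl

theorem om_inv {y : G} (hy : y ∈ Subgroup.normalizer (A : Set G)) : om fr y⁻¹ = (om fr y)⁻¹ := by
  rw [eq_inv_iff_mul_eq_one, ← om_mul fr (inv_mem hy) hy, inv_mul_cancel, om_one]

/-- **The type is invariant under conjugation in `N_G(A)`.** -/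
theorem om_conj {y g : G} (hy : y ∈ Subgroup.normalizer (A : Set G)) (hg : g ∈ Subgroup.normalizer (A : Set G)) :
    om fr (g * y * g⁻¹) = om fr y := by
  rw [om_mul fr (mul_mem hg hy) (inv_mem hg), om_mul fr hg hy, om_inv fr hg, ty_comm (om fr g), mul_inv_cancel_right]

theorem om_conj' {y g : G} (hy : y ∈ Subgroup.normalizer (A : Set G)) (hg : g ∈ Subgroup.normalizer (A : Set G)) :
    om fr (g⁻¹ * y * g) = om fr y := by
  have := om_conj fr hy (inv_mem hg)
  rwa [inv_inv] at this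

theorem om_mem {a : G} (ha : a ∈ A) : om fr a = 1 := by
  rw [om_eq fr (Subgroup.le_normalizer ha), act_conj_mem fr.e ha (Subgroup.le_normalizer ha), typ_conj]

theorem om_centralizer {c : G} (hc : c ∈ Subgroup.centralizer (A : Set G)) (hcN : c ∈ Subgroup.normalizer (A : Set G)) :
    om fr c = 1 := by
  rw [om_eq fr hcN, act_eq_one_of_mem_centralizer fr.e (y := ⟨c, hcN⟩) hc, map_one]

theorem om_fld {f : G} (hf : f ∈ Subgroup.normalizer (A : Set G)) {σ : F ≃+* F} (h : Fld fr f σ) :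
    om fr f = (σ, 1) := by
  rw [om_eq fr hf]
  have h1 : act A fr.e ⟨f, hf⟩ = fd σ := by
    apply ext_X
    intro i j hij s
    rw [← fr.map_X hij, act_mk, fr.map_X hij, fd_X, ← fr.map_X hij]
    congr 2
    exact Subtype.ext (h i j hij s)
  rw [h1, typ_fd]

theorem om_grf {f : G} (hf : f ∈ Subgroup.normalizer (A : Set G)) {σ : F ≃+* F} (h : Grf fr f σ) :
    om fr f = (σ, -1) := by
  rw [om_eq fr hf]
  have h1 : act A fr.e ⟨f, hf⟩ = fd σ * gr := by
    apply ext_X
    intro i j hij s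
    rw [← fr.map_X hij, act_mk, fr.map_X hij, MulAut.mul_apply, gr_X, fd_X, ← fr.map_X (rev_ne hij.symm)]
    congr 2
    exact Subtype.ext (h i j hij s)
  rw [h1, map_mul, typ_fd, typ_gr]
  exact Prod.ext (mul_one _) (one_mul _)

theorem om_ft {y : G} (hy : y ∈ Subgroup.normalizer (A : Set G)) {σ : F ≃+* F} (h : FT fr y σ) :
    om fr y = (σ, 1) := by
  obtain ⟨u, hu, h⟩ := h
  have huN := Subgroup.le_normalizer (fr.U_le hu)
  rw [← om_fld fr (mul_mem huN hy) h, om_mul fr huN hy, om_mem fr (fr.U_le hu), one_mul]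

theorem om_gt {y : G} (hy : y ∈ Subgroup.normalizer (A : Set G)) {σ : F ≃+* F} (h : GT fr y σ) :
    om fr y = (σ, -1) := by
  obtain ⟨u, hu, h⟩ := h
  have huN := Subgroup.le_normalizer (fr.U_le hu)
  rw [← om_grf fr (mul_mem huN hy) h, om_mul fr huN hy, om_mem fr (fr.U_le hu), one_mul]

variable {fr} {T : Subgroup G}

theorem ft_of_om (had : Adapted fr T) (hTA : T ≤ Subgroup.normalizer (A : Set G)) {y : G} (hy : y ∈ T)
    {σ : F ≃+* F} (h : om fr y = (σ, 1)) : FT fr y σ := by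
  rcases had.cases hy with ⟨τ, h1⟩ | ⟨τ, h1⟩
  · rw [om_ft fr (hTA hy) h1] at h
    rwa [← (Prod.mk.inj h).1]
  · rw [om_gt fr (hTA hy) h1] at h
    exact absurd (Prod.mk.inj h).2 (by decide)

theorem gt_of_om (had : Adapted fr T) (hTA : T ≤ Subgroup.normalizer (A : Set G)) {y : G} (hy : y ∈ T)
    {σ : F ≃+* F} (h : om fr y = (σ, -1)) : GT fr y σ := by
  rcases had.cases hy with ⟨τ, h1⟩ | ⟨τ, h1⟩
  · rw [om_ft fr (hTA hy) h1] at h
    exact absurd (Prod.mk.inj h).2 (by decide)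
  · rw [om_gt fr (hTA hy) h1] at h
    rwa [← (Prod.mk.inj h).1]

/-- Elements of `T` of type `1` lie in `U C(A)`. -/
theorem exists_of_om_one [Finite G] (hZ : Odd (Nat.card (Subgroup.center ↥A))) (hA : _root_.commutator ↥A = ⊤)
    (had : Adapted fr T) (hTA : T ≤ Subgroup.normalizer (A : Set G)) {y : G} (hy : y ∈ T)
    (h : om fr y = 1) : ∃ v ∈ fr.U, v⁻¹ * y ∈ Subgroup.centralizer (A : Set G) :=
  FT.exists_of_one hZ hA (hTA hy) (ft_of_om had hTA hy h)

end Om

end Cfsg.Agent.StdRank2.L3W6.Types
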