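import Mathlib
import Cfsg.Agent.StdRank2.L3W6.Types
import Cfsg.Agent.StdRank2.OutL3JeMain

/-!
# One factor: centralizers in `U` of the involutions of a 2-group normalising `A` (type `L₃(q)`)

`T` is a 2-group normalising `A`, to which the frame is adapted.  For `y ∈ T` with `y² ∈ C(A)`, the
order of `C_U(y)` is `q` (graph type) or `r³`, `r² = q` (field and graph-field type); we also count
elementary abelian subgroups.
-/

set_option autoImplicit false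

namespace Cfsg.Agent.StdRank2.L3W6.Side

open Cfsg.Agent.StdRank2.OutL3Rel Cfsg.Agent.StdRank2.OutField Cfsg.Agent.StdRank2.OutL3Inv
open Cfsg.Agent.StdRank2.OutL3Je Cfsg.Agent.StdRank2.OutL3JeMain Cfsg.Agent.StdRank2.L3W6.Types

section Gen

variable {G : Type*} [Group G]

/-- A subgroup is covered by the fibres of a function. -/
theorem card_le_fib [Finite G] {H N : Subgroup G} {β : Type*} (f : G → β) (S : Set β) (hS : S.Finite)
    (h : ∀ x ∈ H, f x ∈ S) (hf : ∀ x ∈ H, ∀ y ∈ H, f x = f y → x⁻¹ * y ∈ N) :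
    Nat.card H ≤ S.ncard * Nat.card N := by
  classical
  have := hS.to_subtype
  have hsec : ∀ b : S, ∃ y : G, (∃ x ∈ H, f x = b) → y ∈ H ∧ f y = b := by
    intro b
    by_cases hb : ∃ x ∈ H, f x = b
    · obtain ⟨x, hx, hxb⟩ := hb
      exact ⟨x, fun _ => ⟨hx, hxb⟩⟩
    · exact ⟨1, fun h => absurd h hb⟩
  choose s hs using hsec
  have hs' : ∀ x : H, s ⟨f x, h x x.2⟩ ∈ H ∧ f (s ⟨f x, h x x.2⟩) = f x := fun x => hs _ ⟨x, x.2, rfl⟩
  have h1 : Nat.card H ≤ Nat.card (S × N) := by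
    apply Nat.card_le_card_of_injective
      (fun x : H => ((⟨f x, h x x.2⟩ : S), (⟨(s ⟨f x, h x x.2⟩)⁻¹ * x, hf _ (hs' x).1 _ x.2 (hs' x).2⟩ : N)))
    intro x y hxy
    obtain ⟨e1, e2⟩ := Prod.mk.inj hxy
    have e3 : f x = f y := congrArg Subtype.val e1
    have e4 := congrArg Subtype.val e2
    have e5 : s ⟨f x, h x x.2⟩ = s ⟨f y, h y y.2⟩ := by rw [e1]
    apply Subtype.ext
    have e6 : (s ⟨f x, h x x.2⟩)⁻¹ * (x : G) = (s ⟨f y, h y y.2⟩)⁻¹ * (y : G) := e4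
    rw [e5] at e6
    exact mul_left_cancel e6
  rwa [Nat.card_prod] at h1

end Gen

variable {F : Type*} [Field F] [Finite F] [CharP F 2] {G : Type*} [Group G] [Finite G] {A : Subgroup G}
  {fr : FrameL3 A F} (hZ : Odd (Nat.card (Subgroup.center ↥A)))

/-- `C_U(y)`. -/
def CU (fr : FrameL3 A F) (y : G) : Subgroup G := fr.U ⊓ Subgroup.centralizer {y}

omit [Finite F] [CharP F 2] [Finite G] in
theorem mem_CU {y v : G} : v ∈ CU fr y ↔ v ∈ fr.U ∧ y * v = v * y := by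
  rw [CU, Subgroup.mem_inf, Subgroup.mem_centralizer_singleton_iff, eq_comm (a := v * y)]

omit [Finite F] [CharP F 2] [Finite G] in
theorem CU_conj {w y : G} (hw : w ∈ fr.U) :
    CU fr (w * y * w⁻¹) = (CU fr y).map (MulAut.conj w).toMonoidHom := by
  ext v
  rw [mem_CU, Subgroup.mem_map]
  constructor
  · rintro ⟨hv, h⟩
    refine ⟨w⁻¹ * v * w, mem_CU.2 ⟨mul_mem (mul_mem (inv_mem hw) hv) hw, ?_⟩, ?_⟩
    · calc y * (w⁻¹ * v * w) = w⁻¹ * ((w * y * w⁻¹) * v) * w := by group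
        _ = w⁻¹ * (v * (w * y * w⁻¹)) * w := by rw [h]
        _ = w⁻¹ * v * w * y := by group
    · show w * (w⁻¹ * v * w) * w⁻¹ = v
      group
  · rintro ⟨x, hx, rfl⟩
    obtain ⟨hx, h⟩ := mem_CU.1 hx
    refine ⟨mul_mem (mul_mem hw hx) (inv_mem hw), ?_⟩
    show w * y * w⁻¹ * (w * x * w⁻¹) = w * x * w⁻¹ * (w * y * w⁻¹)
    calc w * y * w⁻¹ * (w * x * w⁻¹) = w * (y * x) * w⁻¹ := by group
      _ = w * (x * y) * w⁻¹ := by rw [h]
      _ = w * x * w⁻¹ * (w * y * w⁻¹) := by group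

omit [Finite F] [CharP F 2] [Finite G] in
theorem card_CU_conj {w y : G} (hw : w ∈ fr.U) : Nat.card (CU fr (w * y * w⁻¹)) = Nat.card (CU fr y) := by
  rw [CU_conj hw, Subgroup.card_map_of_injective (MulAut.conj w).injective]

include hZ

theorem card_CU_graph {f : G} (hf : Grf fr f 1) : Nat.card (CU fr f) = Nat.card F := by
  have h1 : ((CU fr f : Subgroup G) : Set G) = S0 fr := by
    ext v
    show v ∈ CU fr f ↔ _
    rw [mem_CU]
    constructor
    · rintro ⟨hv, h⟩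
      obtain ⟨r, s, t, rfl⟩ := (mem_U fr hZ).1 hv
      obtain ⟨rfl, rfl⟩ := (comm_iff_graph hZ hf r s t).1 h
      exact ⟨t, rfl⟩
    · rintro ⟨t, rfl⟩
      exact ⟨u_mem fr 0 0 t, (comm_iff_graph hZ hf 0 0 t).2 ⟨rfl, rfl⟩⟩
  rw [← SetLike.coe_sort_coe, Nat.card_coe_set_eq, h1, ncard_S0]

theorem card_CU_fld {f : G} {σ : F ≃+* F} (hf : Fld fr f σ) :
    Nat.card (CU fr f) = Nat.card {x : F // σ x = x} ^ 3 := by
  have h1 : Nat.card (CU fr f) = Nat.card ({x : F // σ x = x} × {x : F // σ x = x} × {x : F // σ x = x}) := by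
    symm
    apply Nat.card_eq_of_bijective
      (fun p : {x : F // σ x = x} × {x : F // σ x = x} × {x : F // σ x = x} =>
        (⟨u fr p.1 p.2.1 p.2.2, mem_CU.2 ⟨u_mem fr _ _ _,
          (comm_iff_fld hZ hf _ _ _).2 ⟨p.1.2, p.2.1.2, p.2.2.2⟩⟩⟩ : CU fr f))
    constructor
    · rintro ⟨r, s, t⟩ ⟨r', s', t'⟩ h
      obtain ⟨e1, e2, e3⟩ := u_inj fr (congrArg Subtype.val h)
      exact Prod.ext (Subtype.ext e1) (Prod.ext (Subtype.ext e2) (Subtype.ext e3))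
    · rintro ⟨v, hv⟩
      obtain ⟨hv, h⟩ := mem_CU.1 hv
      obtain ⟨r, s, t, rfl⟩ := (mem_U fr hZ).1 hv
      obtain ⟨h1, h2, h3⟩ := (comm_iff_fld hZ hf _ _ _).1 h
      exact ⟨(⟨r, h1⟩, ⟨s, h2⟩, ⟨t, h3⟩), rfl⟩
  rw [h1, Nat.card_prod, Nat.card_prod]
  ring

theorem card_CU_grf {f : G} {σ : F ≃+* F} (hf : Grf fr f σ) (h1 : σ ≠ 1) (h2 : σ * σ = 1) :
    Nat.card (CU fr f) = Nat.card F * Nat.card {x : F // σ x = x} := by
  have hex : ∀ r : F, ∃ t : F, t + σ t = r * σ r := fun r => exists_trace h2 h1 (by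
    rw [map_mul, invol_apply h2, mul_comm])
  choose g hg using hex
  have hfix : ∀ r t : F, σ (t + r * σ r) = t ↔ t + σ t = r * σ r := by
    intro r t
    rw [map_add, map_mul, invol_apply h2]
    constructor
    · intro h
      calc t + σ t = σ t + (σ t + σ r * r) := by rw [h, add_comm]
        _ = r * σ r := by rw [← add_assoc, CharTwo.add_self_eq_zero, zero_add, mul_comm]
    · intro h
      rw [mul_comm, ← h, add_comm t, ← add_assoc, CharTwo.add_self_eq_zero, zero_add]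
  have hmem : ∀ r (x : {x : F // σ x = x}), u fr r (σ r) (g r + x) ∈ CU fr f := by
    intro r x
    refine mem_CU.2 ⟨u_mem fr _ _ _, (comm_iff_grf hZ hf _ _ _).2 ⟨invol_apply h2 r, rfl, ?_⟩⟩
    rw [hfix, map_add, x.2]
    calc g r + (x : F) + (σ (g r) + x) = (g r + σ (g r)) + ((x : F) + x) := by ring
      _ = r * σ r := by rw [CharTwo.add_self_eq_zero, add_zero, hg]
  rw [← Nat.card_prod]
  symm
  apply Nat.card_eq_of_bijective
    (fun p : F × {x : F // σ x = x} => (⟨u fr p.1 (σ p.1) (g p.1 + p.2), hmem p.1 p.2⟩ : CU fr f))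
  constructor
  · rintro ⟨r, x⟩ ⟨r', x'⟩ h
    obtain ⟨e1, -, e3⟩ := u_inj fr (congrArg Subtype.val h)
    have e1' : r = r' := e1
    subst e1'
    exact Prod.ext rfl (Subtype.ext (add_left_cancel e3))
  · rintro ⟨v, hv⟩
    obtain ⟨hv, h⟩ := mem_CU.1 hv
    obtain ⟨r, s, t, rfl⟩ := (mem_U fr hZ).1 hv
    obtain ⟨h3, h4, h5⟩ := (comm_iff_grf hZ hf _ _ _).1 h
    subst h4
    rw [hfix] at h5
    refine ⟨(r, ⟨g r + t, ?_⟩), ?_⟩
    · rw [map_add]
      have e1 := hg r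
      have : σ (g r) + σ t = (g r + t) + ((g r + σ (g r)) + (t + σ t)) := by
        have e2 : (g r + t) + ((g r + σ (g r)) + (t + σ t)) =
          (g r + g r) + (t + t) + (σ (g r) + σ t) := by ring
        rw [e2, CharTwo.add_self_eq_zero, CharTwo.add_self_eq_zero, zero_add, zero_add]
      rw [this, e1, h5, CharTwo.add_self_eq_zero, add_zero]
    · apply Subtype.ext
      show u fr r (σ r) (g r + (g r + t)) = u fr r (σ r) t
      rw [← add_assoc, CharTwo.add_self_eq_zero, zero_add]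

/-! ### Elementary abelian subgroups -/

/-- The number of involutions of `U` is less than `2 q²`. -/
theorem card_sq_one : {v : G | v ∈ fr.U ∧ v * v = 1}.ncard < 2 * Nat.card F ^ 2 := by
  have h1 : {v : G | v ∈ fr.U ∧ v * v = 1} ⊆ S1 fr ∪ (S2 fr \ {1}) := by
    rintro v ⟨hv, h⟩
    obtain ⟨r, s, t, rfl⟩ := (mem_U fr hZ).1 hv
    rw [u_sq fr hZ, ← u_zero fr hZ] at h
    rcases mul_eq_zero.1 (u_inj fr h).2.2 with rfl | rfl
    · by_cases hs : s = 0
      · subst hs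
        exact Or.inl ⟨0, t, rfl⟩
      · right
        refine ⟨⟨s, t, rfl⟩, fun h' => hs ?_⟩
        rw [Set.mem_singleton_iff, ← u_zero fr hZ] at h'
        exact (u_inj fr h').2.1
    · exact Or.inl ⟨r, t, rfl⟩
  have h2 := Set.ncard_le_ncard h1 (Set.toFinite _)
  have h3 := Set.ncard_union_le (S1 fr) (S2 fr \ {1})
  have h4 : (1 : G) ∈ S2 fr := ⟨0, 0, (u_zero fr hZ).symm⟩
  have h5 := Set.ncard_sdiff_singleton_of_mem h4
  have h6 := ncard_S1 (fr := fr)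
  have h7 := ncard_S2 (fr := fr)
  have h8 : 0 < Nat.card F ^ 2 := pow_pos Nat.card_pos 2
  omega

/-- `E₁`, as a subgroup. -/
def E1 : Subgroup G where
  carrier := S1 fr
  mul_mem' := by
    rintro _ _ ⟨r, t, rfl⟩ ⟨r', t', rfl⟩
    exact ⟨_, _, by rw [u_mul fr hZ, add_zero]⟩
  one_mem' := ⟨0, 0, (u_zero fr hZ).symm⟩
  inv_mem' := by
    rintro _ ⟨r, t, rfl⟩
    exact ⟨_, _, u_inv fr hZ r 0 t⟩

/-- `E₂`, as a subgroup. -/
def E2 : Subgroup G where
  carrier := S2 fr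
  mul_mem' := by
    rintro _ _ ⟨r, t, rfl⟩ ⟨r', t', rfl⟩
    exact ⟨_, _, by rw [u_mul fr hZ, add_zero]⟩
  one_mem' := ⟨0, 0, (u_zero fr hZ).symm⟩
  inv_mem' := by
    rintro _ ⟨r, t, rfl⟩
    exact ⟨_, _, u_inv fr hZ 0 r t⟩

/-- `Z(U)`, as a subgroup. -/
def E0 : Subgroup G where
  carrier := S0 fr
  mul_mem' := by
    rintro _ _ ⟨t, rfl⟩ ⟨t', rfl⟩
    exact ⟨_, by rw [u_mul fr hZ, add_zero]⟩
  one_mem' := ⟨0, (u_zero fr hZ).symm⟩
  inv_mem' := by
    rintro _ ⟨t, rfl⟩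
    exact ⟨_, u_inv fr hZ 0 0 t⟩

/-- elementary abelian 2-subgroups -/
structure El (X : Subgroup G) : Prop where
  comm : ∀ x ∈ X, ∀ y ∈ X, x * y = y * x
  sq : ∀ x ∈ X, x * x = 1

omit [Finite G] [Finite F] [CharP F 2] hZ in
theorem El.mono {X Y : Subgroup G} (h : El Y) (hXY : X ≤ Y) : El X :=
  ⟨fun x hx y hy => h.comm x (hXY hx) y (hXY hy), fun x hx => h.sq x (hXY hx)⟩

omit [Finite G] [Finite F] [CharP F 2] hZ in
theorem El.map {X : Subgroup G} (h : El X) (w : G) : El (X.map (MulAut.conj w).toMonoidHom) := by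
  constructor
  · rintro _ ⟨x, hx, rfl⟩ _ ⟨y, hy, rfl⟩
    rw [← map_mul, h.comm x hx y hy, map_mul]
  · rintro _ ⟨x, hx, rfl⟩
    rw [← map_mul, h.sq x hx, map_one]

theorem el_E1 : El (E1 (fr := fr) hZ) := by
  constructor
  · rintro _ ⟨r, t, rfl⟩ _ ⟨r', t', rfl⟩
    exact (u_comm_iff fr hZ _ _ _ _ _ _).2 (by ring)
  · rintro _ ⟨r, t, rfl⟩
    rw [u_sq fr hZ, mul_zero, u_zero fr hZ]

theorem el_E2 : El (E2 (fr := fr) hZ) := by
  constructor
  · rintro _ ⟨r, t, rfl⟩ _ ⟨r', t', rfl⟩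
    exact (u_comm_iff fr hZ _ _ _ _ _ _).2 (by ring)
  · rintro _ ⟨r, t, rfl⟩
    rw [u_sq fr hZ, zero_mul, u_zero fr hZ]

theorem el_E0 : El (E0 (fr := fr) hZ) := by
  constructor
  · rintro _ ⟨t, rfl⟩ _ ⟨t', rfl⟩
    exact (u_comm_iff fr hZ _ _ _ _ _ _).2 (by ring)
  · rintro _ ⟨t, rfl⟩
    rw [u_sq fr hZ, mul_zero, u_zero fr hZ]

theorem E1_le : E1 (fr := fr) hZ ≤ fr.U := by
  rintro _ ⟨r, t, rfl⟩
  exact u_mem fr _ _ _

theorem E2_le : E2 (fr := fr) hZ ≤ fr.U := by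
  rintro _ ⟨r, t, rfl⟩
  exact u_mem fr _ _ _

theorem E0_le : E0 (fr := fr) hZ ≤ fr.U := by
  rintro _ ⟨t, rfl⟩
  exact u_mem fr _ _ _

theorem card_E1 : Nat.card (E1 (fr := fr) hZ) = Nat.card F ^ 2 := by
  rw [← SetLike.coe_sort_coe, Nat.card_coe_set_eq]
  exact ncard_S1

theorem card_E2 : Nat.card (E2 (fr := fr) hZ) = Nat.card F ^ 2 := by
  rw [← SetLike.coe_sort_coe, Nat.card_coe_set_eq]
  exact ncard_S2

theorem card_E0 : Nat.card (E0 (fr := fr) hZ) = Nat.card F := by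
  rw [← SetLike.coe_sort_coe, Nat.card_coe_set_eq]
  exact ncard_S0

/-- Every involution of `U` lies in an elementary abelian subgroup of order `q²` of `U`. -/
theorem exists_el_of_sq {e : G} (he : e ∈ fr.U) (hee : e * e = 1) :
    ∃ V : Subgroup G, V ≤ fr.U ∧ El V ∧ e ∈ V ∧ Nat.card V = Nat.card F ^ 2 := by
  obtain ⟨r, s, t, rfl⟩ := (mem_U fr hZ).1 he
  rw [u_sq fr hZ, ← u_zero fr hZ] at hee
  rcases mul_eq_zero.1 (u_inj fr hee).2.2 with rfl | rfl
  · exact ⟨E2 hZ, E2_le hZ, el_E2 hZ, ⟨s, t, rfl⟩, card_E2 hZ⟩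
  · exact ⟨E1 hZ, E1_le hZ, el_E1 hZ, ⟨r, t, rfl⟩, card_E1 hZ⟩

omit [Finite G] [Finite F] [CharP F 2] hZ in
theorem le_CU_conj {V : Subgroup G} {w y : G} (hw : w ∈ fr.U) (hV : V ≤ CU fr (w * y * w⁻¹)) :
    V.map (MulAut.conj w⁻¹).toMonoidHom ≤ CU fr y := by
  have h1 : CU fr y = (CU fr (w * y * w⁻¹)).map (MulAut.conj w⁻¹).toMonoidHom := by
    rw [← CU_conj (inv_mem hw)]
    congr 1
    group
  rw [h1]
  exact Subgroup.map_mono hV

theorem exists_el_graph {w y : G} (hw : w ∈ fr.U) (hf : Grf fr (w * y * w⁻¹) 1) :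
    ∃ V : Subgroup G, V ≤ CU fr y ∧ El V ∧ Nat.card V = Nat.card F := by
  refine ⟨_, le_CU_conj hw (V := E0 (fr := fr) hZ) ?_, (el_E0 (fr := fr) hZ).map _, ?_⟩
  · rintro _ ⟨t, rfl⟩
    exact mem_CU.2 ⟨u_mem fr 0 0 t, (comm_iff_graph hZ hf 0 0 t).2 ⟨rfl, rfl⟩⟩
  · rw [Subgroup.card_map_of_injective (MulAut.conj w⁻¹).injective, card_E0 hZ]

theorem exists_el_fld {w y : G} {σ : F ≃+* F} (hw : w ∈ fr.U) (hf : Fld fr (w * y * w⁻¹) σ) :
    ∃ V : Subgroup G, V ≤ CU fr y ∧ El V ∧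
      Nat.card V = Nat.card {x : F // σ x = x} * Nat.card {x : F // σ x = x} := by
  refine ⟨_, le_CU_conj hw (V := CU fr (w * y * w⁻¹) ⊓ E1 (fr := fr) hZ) inf_le_left,
    ((el_E1 (fr := fr) hZ).mono inf_le_right).map _, ?_⟩
  rw [Subgroup.card_map_of_injective (MulAut.conj w⁻¹).injective, ← Nat.card_prod]
  symm
  apply Nat.card_eq_of_bijective
    (fun p : {x : F // σ x = x} × {x : F // σ x = x} =>
      (⟨u fr p.1 0 p.2, ⟨mem_CU.2 ⟨u_mem fr _ _ _, (comm_iff_fld hZ hf _ _ _).2 ⟨p.1.2, map_zero σ, p.2.2⟩⟩,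
        ⟨_, _, rfl⟩⟩⟩ : ↥(CU fr (w * y * w⁻¹) ⊓ E1 (fr := fr) hZ)))
  constructor
  · rintro ⟨r, t⟩ ⟨r', t'⟩ h
    obtain ⟨e1, -, e3⟩ := u_inj fr (congrArg Subtype.val h)
    exact Prod.ext (Subtype.ext e1) (Subtype.ext e3)
  · rintro ⟨v, hv, ⟨r, t, rfl⟩⟩
    obtain ⟨-, h⟩ := mem_CU.1 hv
    obtain ⟨h1, -, h3⟩ := (comm_iff_fld hZ hf _ _ _).1 h
    exact ⟨(⟨r, h1⟩, ⟨t, h3⟩), rfl⟩

theorem exists_el_grf {w y : G} {σ : F ≃+* F} (hw : w ∈ fr.U) (hf : Grf fr (w * y * w⁻¹) σ) :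
    ∃ V : Subgroup G, V ≤ CU fr y ∧ El V ∧ Nat.card V = Nat.card {x : F // σ x = x} := by
  refine ⟨_, le_CU_conj hw (V := CU fr (w * y * w⁻¹) ⊓ E0 (fr := fr) hZ) inf_le_left,
    ((el_E0 (fr := fr) hZ).mono inf_le_right).map _, ?_⟩
  rw [Subgroup.card_map_of_injective (MulAut.conj w⁻¹).injective]
  symm
  have key : ∀ t : F, (w * y * w⁻¹) * u fr 0 0 t = u fr 0 0 t * (w * y * w⁻¹) ↔ σ t = t := by
    intro t
    rw [comm_iff_grf hZ hf, map_zero, mul_zero, add_zero]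
    simp
  apply Nat.card_eq_of_bijective
    (fun p : {x : F // σ x = x} =>
      (⟨u fr 0 0 p, ⟨mem_CU.2 ⟨u_mem fr _ _ _, (key _).2 p.2⟩, ⟨_, rfl⟩⟩⟩ :
        ↥(CU fr (w * y * w⁻¹) ⊓ E0 (fr := fr) hZ)))
  constructor
  · rintro t t' h
    exact Subtype.ext (u_inj fr (congrArg Subtype.val h)).2.2
  · rintro ⟨v, hv, ⟨t, rfl⟩⟩
    obtain ⟨-, h⟩ := mem_CU.1 hv
    exact ⟨⟨t, (key t).1 h⟩, rfl⟩

/-! ### Upper bounds -/

/-- elementary subgroups of `Z(U)` commuting with an element of type `(σ, ±1)` -/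
theorem card_le_fix {W : Subgroup G} (hW : (W : Set G) ⊆ S0 fr) {y : G} {σ : F ≃+* F}
    (hy : FT fr y σ ∨ GT fr y σ) (hc : ∀ w ∈ W, y * w = w * y) :
    Nat.card W ≤ Nat.card {x : F // σ x = x} := by
  have h1 : ∀ w : W, ∃ x : {x : F // σ x = x}, (w : G) = u fr 0 0 x := by
    rintro ⟨w, hw⟩
    obtain ⟨t, rfl⟩ := hW hw
    have h2 : y * u fr 0 0 t * y⁻¹ = u fr 0 0 (σ t) := by
      rcases hy with hy | hy
      · exact hy.conj_zero hZ t
      · exact hy.conj_zero hZ t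
    rw [hc _ hw, mul_inv_cancel_right] at h2
    exact ⟨⟨t, (u_inj fr h2).2.2.symm⟩, rfl⟩
  choose g hg using h1
  apply Nat.card_le_card_of_injective g
  intro a b h
  apply Subtype.ext
  rw [hg, hg, h]

/-- projection of an elementary abelian subgroup of `N(A)` to `U` -/
def proj (X : Subgroup G) : Subgroup G where
  carrier := {v | v ∈ fr.U ∧ ∃ x ∈ X, v⁻¹ * x ∈ Subgroup.centralizer (A : Set G)}
  mul_mem' := by
    rintro v w ⟨hv, x, hx, hvx⟩ ⟨hw, y, hy, hwy⟩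
    refine ⟨mul_mem hv hw, x * y, mul_mem hx hy, ?_⟩
    have h1 := Subgroup.mem_centralizer_iff.1 hvx _ (inv_mem (fr.U_le hw))
    have h2 : (v * w)⁻¹ * (x * y) = (v⁻¹ * x) * (w⁻¹ * y) := by
      calc (v * w)⁻¹ * (x * y) = w⁻¹ * (v⁻¹ * x) * y := by group
        _ = (v⁻¹ * x) * w⁻¹ * y := by rw [h1]
        _ = (v⁻¹ * x) * (w⁻¹ * y) := by group
    rw [h2]
    exact mul_mem hvx hwy
  one_mem' := ⟨one_mem _, 1, one_mem _, by rw [inv_one, one_mul]; exact one_mem _⟩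
  inv_mem' := by
    rintro v ⟨hv, x, hx, hvx⟩
    refine ⟨inv_mem hv, x⁻¹, inv_mem hx, ?_⟩
    have h1 := Subgroup.mem_centralizer_iff.1 (inv_mem hvx) _ (fr.U_le hv)
    have h2 : v⁻¹⁻¹ * x⁻¹ = (v⁻¹ * x)⁻¹ := by
      calc v⁻¹⁻¹ * x⁻¹ = v * (v⁻¹ * x)⁻¹ * v⁻¹ := by group
        _ = (v⁻¹ * x)⁻¹ := by rw [h1, mul_inv_cancel_right]
    rw [h2]
    exact inv_mem hvx

omit [Finite G] [Finite F] [CharP F 2] hZ in
theorem mem_proj {X : Subgroup G} {v : G} :
    v ∈ proj (fr := fr) X ↔ v ∈ fr.U ∧ ∃ x ∈ X, v⁻¹ * x ∈ Subgroup.centralizer (A : Set G) := Iff.rfl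

omit [Finite G] [Finite F] [CharP F 2] hZ in
theorem proj_le {X : Subgroup G} : proj (fr := fr) X ≤ fr.U := fun _ h => h.1

theorem el_proj {X : Subgroup G} (hX : El X) : El (proj (fr := fr) X) := by
  have hcen : ∀ v ∈ fr.U, ∀ c ∈ Subgroup.centralizer (A : Set G), c * v = v * c := fun v hv c hc =>
    (Subgroup.mem_centralizer_iff.1 hc _ (fr.U_le hv)).symm
  constructor
  · rintro v ⟨hv, x, hx, hvx⟩ w ⟨hw, y, hy, hwy⟩
    have e1 : x = v * (v⁻¹ * x) := by group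
    have e2 : y = w * (w⁻¹ * y) := by group
    set c := v⁻¹ * x with hc
    set d := w⁻¹ * y with hd
    have h1 := hX.comm x hx y hy
    rw [e1, e2] at h1
    have h2 : (w * v)⁻¹ * (v * w) = (d * c) * (c * d)⁻¹ := by
      have e3 : v * c * (w * d) = (v * w) * (c * d) := by
        calc v * c * (w * d) = v * (c * w) * d := by group
          _ = v * (w * c) * d := by rw [hcen w hw c hvx]
          _ = (v * w) * (c * d) := by group
      have e4 : w * d * (v * c) = (w * v) * (d * c) := by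
        calc w * d * (v * c) = w * (d * v) * c := by group
          _ = w * (v * d) * c := by rw [hcen v hv d hwy]
          _ = (w * v) * (d * c) := by group
      rw [e3, e4] at h1
      rw [eq_mul_inv_iff_mul_eq, mul_assoc, h1]
      group
    have h3 : (w * v)⁻¹ * (v * w) = 1 := eq_one_of_centralizer hZ
      (mul_mem (inv_mem (mul_mem hw hv)) (mul_mem hv hw)) (by
        rw [h2]
        exact mul_mem (mul_mem hwy hvx) (inv_mem (mul_mem hvx hwy)))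
    exact (inv_mul_eq_one.1 h3).symm
  · rintro v ⟨hv, x, hx, hvx⟩
    apply eq_one_of_centralizer hZ (mul_mem hv hv)
    have h1 := hX.sq x hx
    have h2 : v * v = (v⁻¹ * x)⁻¹ * (v⁻¹ * x)⁻¹ := by
      have e1 : x = v * (v⁻¹ * x) := by group
      set c := v⁻¹ * x with hc
      rw [e1] at h1
      have e3 : v * c * (v * c) = (v * v) * (c * c) := by
        calc v * c * (v * c) = v * (c * v) * c := by group
          _ = v * (v * c) * c := by rw [hcen v hv c hvx]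
          _ = (v * v) * (c * c) := by group
      rw [e3] at h1
      rw [← mul_inv_rev]
      exact eq_inv_of_mul_eq_one_left h1
    rw [h2]
    exact mul_mem (inv_mem hvx) (inv_mem hvx)

theorem proj_comm {X : Subgroup G} {y : G} (hyN : y ∈ Subgroup.normalizer (A : Set G))
    (hyU : ∀ v ∈ fr.U, y * v * y⁻¹ ∈ fr.U) (hc : ∀ x ∈ X, y * x = x * y) :
    ∀ v ∈ proj (fr := fr) X, y * v = v * y := by
  rintro v ⟨hv, x, hx, hvx⟩
  have h1 : v⁻¹ * (y * v * y⁻¹) = (v⁻¹ * x) * (y * (v⁻¹ * x) * y⁻¹)⁻¹ := by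
    have h2 := hc x hx
    calc v⁻¹ * (y * v * y⁻¹) = v⁻¹ * (y * x) * x⁻¹ * v * y⁻¹ := by group
      _ = v⁻¹ * (x * y) * x⁻¹ * v * y⁻¹ := by rw [h2]
      _ = (v⁻¹ * x) * (y * (v⁻¹ * x) * y⁻¹)⁻¹ := by group
  have h2 : y * (v⁻¹ * x) * y⁻¹ ∈ Subgroup.centralizer (A : Set G) := by
    rw [Subgroup.mem_centralizer_iff]
    intro a ha
    have h3 : y⁻¹ * a * y ∈ A := (Subgroup.mem_normalizer_iff''.1 hyN a).1 ha
    have h4 := Subgroup.mem_centralizer_iff.1 hvx _ h3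
    calc a * (y * (v⁻¹ * x) * y⁻¹) = y * ((y⁻¹ * a * y) * (v⁻¹ * x)) * y⁻¹ := by group
      _ = y * ((v⁻¹ * x) * (y⁻¹ * a * y)) * y⁻¹ := by rw [h4]
      _ = y * (v⁻¹ * x) * y⁻¹ * a := by group
  have h3 : v⁻¹ * (y * v * y⁻¹) = 1 := eq_one_of_centralizer hZ (mul_mem (inv_mem hv) (hyU v hv)) (by
    rw [h1]
    exact mul_mem hvx (inv_mem h2))
  rw [inv_mul_eq_one, eq_mul_inv_iff_mul_eq] at h3
  exact h3.symm

omit [Finite F] [CharP F 2] hZ in
theorem card_le_proj {X : Subgroup G} (h : ∀ x ∈ X, ∃ v ∈ fr.U, v⁻¹ * x ∈ Subgroup.centralizer (A : Set G)) :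
    Nat.card X ≤ Nat.card (proj (fr := fr) X) * Nat.card ↥(X ⊓ Subgroup.centralizer (A : Set G)) := by
  classical
  have h1 : ∀ x : G, ∃ v : G, x ∈ X → v ∈ fr.U ∧ v⁻¹ * x ∈ Subgroup.centralizer (A : Set G) := by
    intro x
    by_cases hx : x ∈ X
    · obtain ⟨v, hv, hvx⟩ := h x hx
      exact ⟨v, fun _ => ⟨hv, hvx⟩⟩
    · exact ⟨1, fun h => absurd h hx⟩
  choose f hf using h1
  have h2 := card_le_fib (H := X) (N := X ⊓ Subgroup.centralizer (A : Set G)) f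
    (proj (fr := fr) X : Set G) (Set.toFinite _) (fun x hx => ⟨(hf x hx).1, x, hx, (hf x hx).2⟩) (by
      intro x hx y hy hxy
      refine Subgroup.mem_inf.2 ⟨mul_mem (inv_mem hx) hy, ?_⟩
      have h3 := (hf x hx).2
      have h4 := (hf y hy).2
      rw [← hxy] at h4
      have h5 : x⁻¹ * y = ((f x)⁻¹ * x)⁻¹ * ((f x)⁻¹ * y) := by group
      rw [h5]
      exact mul_mem (inv_mem h3) h4)
  rwa [← Nat.card_coe_set_eq, SetLike.coe_sort_coe] at h2

/-- elements of type `1` in `X` -/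
def Xo (fr : FrameL3 A F) {X : Subgroup G} (hX : X ≤ Subgroup.normalizer (A : Set G)) : Subgroup G where
  carrier := {x | x ∈ X ∧ om fr x = 1}
  mul_mem' := by
    rintro x y ⟨hx, hx'⟩ ⟨hy, hy'⟩
    exact ⟨mul_mem hx hy, by rw [om_mul fr (hX hx) (hX hy), hx', hy', one_mul]⟩
  one_mem' := ⟨one_mem _, om_one fr⟩
  inv_mem' := by
    rintro x ⟨hx, hx'⟩
    exact ⟨inv_mem hx, by rw [om_inv fr (hX hx), hx', inv_one]⟩

omit hZ [CharP F 2] [Finite G] [Finite F] in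
open Classical in
/-- the maximal order of an elementary abelian subgroup of `C_U(y)`, `y` of type `p` -/
noncomputable def mm (p : (F ≃+* F) × ℤˣ) : ℕ :=
  if p.1 ≠ 1 ∧ p.2 = -1 then Nat.card {x : F // p.1 x = x} else Nat.card F

section T

variable (hA : _root_.commutator ↥A = ⊤) {T : Subgroup G} (hTA : T ≤ Subgroup.normalizer (A : Set G))
  (had : Adapted fr T)
include hTA had

omit [Finite G] hZ in
theorem ty_cases {y : G} (hy : y ∈ T) : FT fr y (om fr y).1 ∨ GT fr y (om fr y).1 := by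
  rcases had.cases hy with ⟨τ, h1⟩ | ⟨τ, h1⟩
  · rw [om_ft fr (hTA hy) h1]
    exact Or.inl h1
  · rw [om_gt fr (hTA hy) h1]
    exact Or.inr h1

omit hTA in
theorem norm_U {y : G} (hy : y ∈ T) : ∀ v ∈ fr.U, y * v * y⁻¹ ∈ fr.U := by
  intro v hv
  rcases had.cases hy with ⟨τ, h1⟩ | ⟨τ, h1⟩
  · exact h1.norm hZ hv
  · exact h1.norm hZ hv

omit [Finite G] hTA had hZ in
theorem sq_cases {p : (F ≃+* F) × ℤˣ} (hp : p * p = 1) {σ : F ≃+* F} (hσ : σ * σ = 1) (h1 : σ ≠ 1) :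
    p ∈ ({1, (1, -1), (σ, 1), (σ, -1)} : Set ((F ≃+* F) × ℤˣ)) := by
  obtain ⟨τ, ε⟩ := p
  have h2 : τ * τ = 1 := (Prod.mk.inj hp).1
  have h3 : τ = 1 ∨ τ = σ := by
    by_cases h : τ = 1
    · exact Or.inl h
    · exact Or.inr (unique_invol h2 hσ h h1)
  rcases h3 with rfl | rfl <;> rcases Int.units_eq_one_or ε with rfl | rfl
  · exact Or.inl rfl
  · exact Or.inr (Or.inl rfl)
  · exact Or.inr (Or.inr (Or.inl rfl))
  · exact Or.inr (Or.inr (Or.inr rfl))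

include hA in
/-- **Elementary abelian subgroups commuting with an element of graph type.** -/
theorem rank_side (hq : 4 ≤ Nat.card F) {X : Subgroup G} (hXT : X ≤ T) (hX : El X) {u : G} (hu : u ∈ T)
    (hom : om fr u = (1, -1)) (huX : ∀ x ∈ X, u * x = x * u) :
    Nat.card X ≤ 2 * Nat.card F * Nat.card ↥(X ⊓ Subgroup.centralizer (A : Set G)) := by
  classical
  have hXN : X ≤ Subgroup.normalizer (A : Set G) := hXT.trans hTA
  set X0 := Xo fr hXN with hX0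
  have hX0X : X0 ≤ X := fun x hx => hx.1
  have h0 : ∀ x ∈ X0, ∃ v ∈ fr.U, v⁻¹ * x ∈ Subgroup.centralizer (A : Set G) := fun x hx =>
    exists_of_om_one hZ hA had hTA (hXT hx.1) hx.2
  have h1 : Nat.card X0 ≤ Nat.card (proj (fr := fr) X0) * Nat.card ↥(X ⊓ Subgroup.centralizer (A : Set G)) := by
    refine (card_le_proj h0).trans (Nat.mul_le_mul_left _ ?_)
    exact Subgroup.card_le_of_le (inf_le_inf_right _ hX0X)
  have hP := el_proj hZ (fr := fr) (hX.mono hX0X)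
  have hPS : ((proj (fr := fr) X0 : Subgroup G) : Set G) ⊆ S0 fr := by
    apply subset_of_gt hZ proj_le hP.comm hP.sq (gt_of_om had hTA hu hom)
    exact proj_comm hZ (hTA hu) (norm_U hZ had hu) fun x hx => huX x (hX0X hx)
  have hsq : ∀ x ∈ X, om fr x * om fr x = 1 := fun x hx => by
    rw [← om_mul fr (hXN hx) (hXN hx), hX.sq x hx, om_one]
  have hfib : ∀ x ∈ X, ∀ y ∈ X, om fr x = om fr y → x⁻¹ * y ∈ X0 := by
    intro x hx y hy hxy
    exact ⟨mul_mem (inv_mem hx) hy, by rw [om_mul fr (inv_mem (hXN hx)) (hXN hy), om_inv fr (hXN hx), hxy,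
      inv_mul_cancel]⟩
  by_cases hB : ∃ x ∈ X, (om fr x).1 ≠ 1
  · obtain ⟨x, hx, hx1⟩ := hB
    set σ := (om fr x).1 with hσ
    have hσ2 : σ * σ = 1 := (Prod.mk.inj (hsq x hx)).1
    have h2 : Nat.card X ≤ 4 * Nat.card X0 := by
      have h3 := card_le_fib (om fr) ({1, (1, -1), (σ, 1), (σ, -1)} : Set ((F ≃+* F) × ℤˣ)) (Set.toFinite _)
        (fun y hy => sq_cases (hsq y hy) hσ2 hx1) hfib
      refine h3.trans (Nat.mul_le_mul_right _ ?_)
      refine (Set.ncard_insert_le _ _).trans (Nat.succ_le_succ ?_)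
      refine (Set.ncard_insert_le _ _).trans (Nat.succ_le_succ ?_)
      refine (Set.ncard_insert_le _ _).trans (Nat.succ_le_succ ?_)
      rw [Set.ncard_singleton]
    have h3 : Nat.card (proj (fr := fr) X0) ≤ Nat.card {x : F // σ x = x} := by
      apply card_le_fix hZ hPS (ty_cases hTA had (hXT hx))
      exact proj_comm hZ (hTA (hXT hx)) (norm_U hZ had (hXT hx)) fun z hz => hX.comm x hx z (hX0X hz)
    have h4 := card_fix hσ2 hx1
    set r := Nat.card {x : F // σ x = x} with hr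
    have hr2 : 2 ≤ r := by
      by_contra h
      have : r ≤ 1 := by omega
      have : r * r ≤ 1 * 1 := Nat.mul_le_mul this this
      omega
    calc Nat.card X ≤ 4 * (r * Nat.card ↥(X ⊓ Subgroup.centralizer (A : Set G))) :=
          h2.trans (Nat.mul_le_mul_left _ (h1.trans (Nat.mul_le_mul_right _ h3)))
      _ = 2 * (2 * r) * Nat.card ↥(X ⊓ Subgroup.centralizer (A : Set G)) := by ring
      _ ≤ 2 * (r * r) * Nat.card ↥(X ⊓ Subgroup.centralizer (A : Set G)) :=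
          Nat.mul_le_mul_right _ (Nat.mul_le_mul_left _ (Nat.mul_le_mul_right _ hr2))
      _ = _ := by rw [h4]
  · push Not at hB
    have h2 : Nat.card X ≤ 2 * Nat.card X0 := by
      have h3 := card_le_fib (om fr) ({1, (1, -1)} : Set ((F ≃+* F) × ℤˣ)) (Set.toFinite _)
        (fun y hy => by
          have e1 := hB y hy
          rcases Int.units_eq_one_or (om fr y).2 with e2 | e2
          · exact Or.inl (Prod.ext e1 e2)
          · exact Or.inr (Prod.ext e1 e2)) hfib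
      refine h3.trans (Nat.mul_le_mul_right _ ?_)
      refine (Set.ncard_insert_le _ _).trans (Nat.succ_le_succ ?_)
      rw [Set.ncard_singleton]
    have h3 : Nat.card (proj (fr := fr) X0) ≤ Nat.card F := by
      rw [← ncard_S0 (fr := fr), ← SetLike.coe_sort_coe, Nat.card_coe_set_eq]
      exact Set.ncard_le_ncard hPS (Set.toFinite _)
    calc Nat.card X ≤ 2 * (Nat.card F * Nat.card ↥(X ⊓ Subgroup.centralizer (A : Set G))) :=
          h2.trans (Nat.mul_le_mul_left _ (h1.trans (Nat.mul_le_mul_right _ h3)))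
      _ = _ := by ring

/-! ### Involutions of `T` -/

include hA in
/-- the standard form of an outer involution -/
theorem std_form {y : G} (hy : y ∈ T) (hyy : y * y ∈ Subgroup.centralizer (A : Set G)) (hom : om fr y ≠ 1) :
    ∃ w ∈ fr.U, ∃ σ : F ≃+* F, σ * σ = 1 ∧
      ((om fr y = (σ, 1) ∧ σ ≠ 1 ∧ Fld fr (w * y * w⁻¹) σ) ∨ (om fr y = (σ, -1) ∧ Grf fr (w * y * w⁻¹) σ)) := by
  rcases had.invol hZ hTA hA hy hyy with ⟨v, hv, h⟩ | ⟨w, hw, σ, h2, h⟩
  · exfalso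
    apply hom
    have h1 : y = v * (v⁻¹ * y) := by group
    have hN : v ∈ Subgroup.normalizer (A : Set G) := Subgroup.le_normalizer (fr.U_le hv)
    have hN' : v⁻¹ * y ∈ Subgroup.normalizer (A : Set G) := mul_mem (inv_mem hN) (hTA hy)
    rw [h1, om_mul fr hN hN', om_mem fr (fr.U_le hv), om_centralizer fr h hN', one_mul]
  · have hN : w ∈ Subgroup.normalizer (A : Set G) := Subgroup.le_normalizer (fr.U_le hw)
    have hN' : w * y * w⁻¹ ∈ Subgroup.normalizer (A : Set G) := mul_mem (mul_mem hN (hTA hy)) (inv_mem hN)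
    refine ⟨w, hw, σ, h2, ?_⟩
    rw [← om_conj fr (hTA hy) hN]
    rcases h with ⟨h1, h⟩ | h
    · exact Or.inl ⟨om_fld fr hN' h, h1, h⟩
    · exact Or.inr ⟨om_grf fr hN' h, h⟩

include hA in
/-- **The involutions of `y U` are `U`-conjugate.** -/
theorem conj_out {y v : G} (hy : y ∈ T) (hyy : y * y ∈ Subgroup.centralizer (A : Set G)) (hom : om fr y ≠ 1)
    (hv : v ∈ fr.U) (h : y * v * (y * v) ∈ Subgroup.centralizer (A : Set G)) :
    ∃ w ∈ fr.U, y * v = w * y * w⁻¹ := by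
  obtain ⟨w, hw, σ, -, h1⟩ := std_form hZ hA hTA had hy hyy hom
  have hN : w ∈ Subgroup.normalizer (A : Set G) := Subgroup.le_normalizer (fr.U_le hw)
  have hcj : ∀ c ∈ Subgroup.centralizer (A : Set G), w * c * w⁻¹ ∈ Subgroup.centralizer (A : Set G) := by
    intro c hc
    rw [Subgroup.mem_centralizer_iff.1 hc w (fr.U_le hw), mul_inv_cancel_right]
    exact hc
  have e1 : w * y * w⁻¹ * (w * y * w⁻¹) = w * (y * y) * w⁻¹ := by group
  have e2 : w * y * w⁻¹ * (w * v * w⁻¹) * (w * y * w⁻¹ * (w * v * w⁻¹)) = w * (y * v * (y * v)) * w⁻¹ := by group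
  have hc := hcj _ hyy
  have hc' := hcj _ h
  rw [← e1] at hc
  rw [← e2] at hc'
  have hv' : w * v * w⁻¹ ∈ fr.U := mul_mem (mul_mem hw hv) (inv_mem hw)
  obtain ⟨w1, hw1, h2⟩ : ∃ w1 ∈ fr.U, w * y * w⁻¹ * (w * v * w⁻¹) = w1 * (w * y * w⁻¹) * w1⁻¹ := by
    rcases h1 with ⟨-, h1, h3⟩ | ⟨-, h3⟩
    · exact conj_of_sq_fld hZ h3 h1 hc hv' hc'
    · exact conj_of_sq_grf hZ h3 hc hv' hc'
  refine ⟨w⁻¹ * w1 * w, mul_mem (mul_mem (inv_mem hw) hw1) hw, ?_⟩
  calc y * v = w⁻¹ * (w * y * w⁻¹ * (w * v * w⁻¹)) * w := by group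
    _ = w⁻¹ * (w1 * (w * y * w⁻¹) * w1⁻¹) * w := by rw [h2]
    _ = w⁻¹ * w1 * w * y * (w⁻¹ * w1 * w)⁻¹ := by group

include hA in
theorem card_CU_gam {y : G} (hy : y ∈ T) (hyy : y * y ∈ Subgroup.centralizer (A : Set G))
    (hom : om fr y = (1, -1)) : Nat.card (CU fr y) = Nat.card F := by
  obtain ⟨w, hw, σ, -, ⟨h1, h2, -⟩ | ⟨h1, h2⟩⟩ := std_form hZ hA hTA had hy hyy (by
    rw [hom]; exact fun h => absurd (Prod.mk.inj h).2 (by decide))
  · rw [hom] at h1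
    exact absurd (Prod.mk.inj h1).2 (by decide)
  · rw [hom] at h1
    obtain rfl : 1 = σ := (Prod.mk.inj h1).1
    rw [← card_CU_conj hw, card_CU_graph hZ h2]

include hA in
theorem card_CU_out {y : G} (hy : y ∈ T) (hyy : y * y ∈ Subgroup.centralizer (A : Set G))
    (hom : om fr y ≠ 1) (hom' : om fr y ≠ (1, -1)) : ∃ r, r * r = Nat.card F ∧ Nat.card (CU fr y) = r ^ 3 := by
  obtain ⟨w, hw, σ, h2, ⟨h3, h1, h⟩ | ⟨h1, h⟩⟩ := std_form hZ hA hTA had hy hyy hom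
  · exact ⟨_, card_fix h2 h1, by rw [← card_CU_conj hw, card_CU_fld hZ h]⟩
  · have h3 : σ ≠ 1 := by
      rintro rfl
      exact hom' h1
    refine ⟨_, card_fix h2 h3, ?_⟩
    rw [← card_CU_conj hw, card_CU_grf hZ h h3 h2, ← card_fix h2 h3]
    ring

omit [Finite G] [CharP F 2] hZ hTA had in
theorem mm_pos {p : (F ≃+* F) × ℤˣ} (hp : p * p = 1) [CharP F 2] : 1 ≤ mm p := by
  have h0 : 1 ≤ Nat.card F := Nat.card_pos
  rw [mm]
  split_ifs with h
  · have h3 := card_fix (Prod.mk.inj hp).1 h.1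
    change Nat.card {x : F // p.1 x = x} * Nat.card {x : F // p.1 x = x} = Nat.card F at h3
    by_contra h1
    have : Nat.card {x : F // p.1 x = x} = 0 := by omega
    rw [this] at h3
    omega
  · exact h0

omit [Finite G] [CharP F 2] hZ hTA had in
theorem mm_le {p : (F ≃+* F) × ℤˣ} : mm p ≤ Nat.card F := by
  rw [mm]
  split_ifs with h
  · exact Nat.card_le_card_of_injective Subtype.val Subtype.val_injective
  · exact le_rfl

/-- **Upper bound for elementary abelian subgroups of `C_U(y)`.** -/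
theorem card_le_mm {y : G} (hy : y ∈ T) (hp : om fr y * om fr y = 1) (hp1 : om fr y ≠ 1) {P : Subgroup G}
    (hPU : P ≤ fr.U) (hP : El P) (hc : ∀ v ∈ P, y * v = v * y) : Nat.card P ≤ mm (om fr y) := by
  obtain ⟨⟨σ, ε⟩, hom⟩ : ∃ p, om fr y = p := ⟨_, rfl⟩
  rw [hom] at hp hp1 ⊢
  have h2 : σ * σ = 1 := (Prod.mk.inj hp).1
  rcases Int.units_eq_one_or ε with rfl | rfl
  · have h1 : σ ≠ 1 := by
      rintro rfl
      exact hp1 rfl
    have h3 := card_fix h2 h1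
    rw [mm, if_neg (fun h => absurd (show (1 : ℤˣ) = -1 from h.2) (by decide)), ← h3]
    exact card_le_of_ft hZ hPU hP.comm hP.sq (ft_of_om had hTA hy hom) hc
  · have h5 := subset_of_gt hZ hPU hP.comm hP.sq (gt_of_om had hTA hy hom) hc
    by_cases h1 : σ = 1
    · rw [mm, if_neg (fun h => h.1 h1)]
      rw [← ncard_S0 (fr := fr), ← SetLike.coe_sort_coe, Nat.card_coe_set_eq]
      exact Set.ncard_le_ncard h5 (Set.toFinite _)
    · rw [mm, if_pos ⟨h1, rfl⟩]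
      exact card_le_fix hZ h5 (Or.inr (gt_of_om had hTA hy hom)) hc

include hA in
/-- **The bound is attained.** -/
theorem exists_mm {y : G} (hy : y ∈ T) (hyy : y * y ∈ Subgroup.centralizer (A : Set G)) (hp1 : om fr y ≠ 1) :
    ∃ V : Subgroup G, V ≤ CU fr y ∧ El V ∧ Nat.card V = mm (om fr y) := by
  obtain ⟨w, hw, σ, h2, ⟨h4, h1, h⟩ | ⟨h4, h⟩⟩ := std_form hZ hA hTA had hy hyy hp1
  · have h3 := card_fix h2 h1
    rw [h4, mm, if_neg (fun h => absurd (show (1 : ℤˣ) = -1 from h.2) (by decide)), ← h3]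
    exact exists_el_fld hZ hw h
  · by_cases h1 : σ = 1
    · subst h1
      rw [h4, mm, if_neg (fun h => h.1 rfl)]
      exact exists_el_graph hZ hw h
    · rw [h4, mm, if_pos ⟨h1, rfl⟩]
      exact exists_el_grf hZ hw h

end T

end Cfsg.Agent.StdRank2.L3W6.Side
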