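import Mathlib
import Cfsg.Agent.StdRank2.L3W6.Side
import Cfsg.Agent.StdRank2.OutSplit.Table

/-!
# Two factors of type `L₃(q)`: centralizers of involutions in `T ≤ N(A₁) ∩ N(A₂)`
-/

set_option autoImplicit false

namespace Cfsg.Agent.StdRank2.L3W6.Two

open Cfsg.Agent.StdRank2.OutL3Rel Cfsg.Agent.StdRank2.OutField Cfsg.Agent.StdRank2.OutL3Inv
open Cfsg.Agent.StdRank2.OutL3Je Cfsg.Agent.StdRank2.OutL3JeMain Cfsg.Agent.StdRank2.L3W6.Types
open Cfsg.Agent.StdRank2.L3W6.Side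
open Cfsg.Agent.StdRank2.OutSplit (cen mem_cen)

section Gen

variable {G : Type*} [Group G]

/-- the product of two commuting subgroups which meet trivially -/
theorem sup_facts {V W : Subgroup G} (hVW : ∀ v ∈ V, ∀ w ∈ W, v * w = w * v)
    (hd : ∀ x ∈ V, x ∈ W → x = 1) :
    (∀ x, x ∈ V ⊔ W ↔ ∃ v ∈ V, ∃ w ∈ W, x = v * w) ∧ Nat.card ↥(V ⊔ W) = Nat.card V * Nat.card W := by
  have h1 : ∀ x, x ∈ V ⊔ W ↔ ∃ v ∈ V, ∃ w ∈ W, x = v * w := by
    let X : Subgroup G :=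
      { carrier := {x | ∃ v ∈ V, ∃ w ∈ W, x = v * w}
        mul_mem' := by
          rintro _ _ ⟨v, hv, w, hw, rfl⟩ ⟨v', hv', w', hw', rfl⟩
          refine ⟨v * v', mul_mem hv hv', w * w', mul_mem hw hw', ?_⟩
          calc v * w * (v' * w') = v * (w * v') * w' := by group
            _ = v * (v' * w) * w' := by rw [hVW v' hv' w hw]
            _ = v * v' * (w * w') := by group
        one_mem' := ⟨1, one_mem _, 1, one_mem _, (mul_one 1).symm⟩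
        inv_mem' := by
          rintro _ ⟨v, hv, w, hw, rfl⟩
          refine ⟨v⁻¹, inv_mem hv, w⁻¹, inv_mem hw, ?_⟩
          rw [mul_inv_rev, hVW _ (inv_mem hv) _ (inv_mem hw)] }
    have h2 : V ⊔ W = X := by
      apply le_antisymm
      · refine sup_le (fun v hv => ⟨v, hv, 1, one_mem _, (mul_one v).symm⟩)
          (fun w hw => ⟨1, one_mem _, w, hw, (one_mul w).symm⟩)
      · rintro _ ⟨v, hv, w, hw, rfl⟩
        exact mul_mem (Subgroup.mem_sup_left hv) (Subgroup.mem_sup_right hw)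
    intro x
    rw [h2]
    exact Iff.rfl
  refine ⟨h1, ?_⟩
  rw [← Nat.card_prod]
  symm
  apply Nat.card_eq_of_bijective
    (fun p : V × W => (⟨(p.1 : G) * p.2, (h1 _).2 ⟨_, p.1.2, _, p.2.2, rfl⟩⟩ : ↥(V ⊔ W)))
  constructor
  · rintro ⟨v, w⟩ ⟨v', w'⟩ h
    have h3 : (v : G) * w = v' * w' := congrArg Subtype.val h
    have h4 : (v' : G)⁻¹ * v = w' * (w : G)⁻¹ := by
      rw [eq_mul_inv_iff_mul_eq, mul_assoc, h3, inv_mul_cancel_left]
    have h5 := hd _ (mul_mem (inv_mem v'.2) v.2) (by rw [h4]; exact mul_mem w'.2 (inv_mem w.2))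
    have h6 : (v : G) = v' := (inv_mul_eq_one.1 h5).symm
    rw [h5] at h4
    have h7 : (w' : G) = w := mul_inv_eq_one.1 h4.symm
    exact Prod.ext (Subtype.ext h6) (Subtype.ext h7.symm)
  · rintro ⟨x, hx⟩
    obtain ⟨v, hv, w, hw, rfl⟩ := (h1 x).1 hx
    exact ⟨(⟨v, hv⟩, ⟨w, hw⟩), rfl⟩

theorem El.sup {V W : Subgroup G} (hV : El V) (hW : El W) (hVW : ∀ v ∈ V, ∀ w ∈ W, v * w = w * v)
    (hd : ∀ x ∈ V, x ∈ W → x = 1) : El (V ⊔ W) := by
  obtain ⟨h1, -⟩ := sup_facts hVW hd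
  constructor
  · intro x hx y hy
    obtain ⟨v, hv, w, hw, rfl⟩ := (h1 x).1 hx
    obtain ⟨v', hv', w', hw', rfl⟩ := (h1 y).1 hy
    calc v * w * (v' * w') = v * (w * v') * w' := by group
      _ = v * (v' * w) * w' := by rw [hVW v' hv' w hw]
      _ = (v * v') * (w * w') := by group
      _ = (v' * v) * (w' * w) := by rw [hV.comm v hv v' hv', hW.comm w hw w' hw']
      _ = v' * (v * w') * w := by group
      _ = v' * (w' * v) * w := by rw [hVW v hv w' hw']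
      _ = v' * w' * (v * w) := by group
  · intro x hx
    obtain ⟨v, hv, w, hw, rfl⟩ := (h1 x).1 hx
    calc v * w * (v * w) = v * (w * v) * w := by group
      _ = v * (v * w) * w := by rw [hVW v hv w hw]
      _ = (v * v) * (w * w) := by group
      _ = 1 := by rw [hV.sq v hv, hW.sq w hw, one_mul]

theorem El.zpowers {y : G} (hy : y * y = 1) : El (Subgroup.zpowers y) := by
  have h1 : ∀ x ∈ Subgroup.zpowers y, x = 1 ∨ x = y := by
    rintro x ⟨n, rfl⟩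
    rcases Int.even_or_odd' n with ⟨k, rfl | rfl⟩
    · left
      show y ^ (2 * k) = 1
      rw [zpow_mul, zpow_two, hy, one_zpow]
    · right
      show y ^ (2 * k + 1) = y
      rw [zpow_add, zpow_mul, zpow_two, hy, one_zpow, one_mul, zpow_one]
  constructor
  · intro a ha b hb
    rcases h1 a ha with rfl | rfl <;> rcases h1 b hb with rfl | rfl <;> simp
  · intro a ha
    rcases h1 a ha with rfl | rfl
    · exact mul_one 1
    · exact hy

theorem card_zpowers_invol {y : G} (hy : y * y = 1) (h1 : y ≠ 1) : Nat.card (Subgroup.zpowers y) = 2 := by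
  rw [Nat.card_zpowers]
  exact orderOf_eq_prime (by rw [pow_two, hy]) h1

/-- the class of `y` under `H` -/
def cls (H : Subgroup G) (y : G) : Set G := {x | ∃ h ∈ H, x = h * y * h⁻¹}

theorem card_cls [Finite G] (H : Subgroup G) (y : G) : (cls H y).ncard * Nat.card (cen H y) = Nat.card H := by
  classical
  apply le_antisymm
  · have h1 : ∀ x : cls H y, ∃ h ∈ H, (x : G) = h * y * h⁻¹ := fun x => x.2
    choose s hs hs' using h1
    have h2 : Nat.card (cls H y × cen H y) ≤ Nat.card H := by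
      apply Nat.card_le_card_of_injective
        (fun p : cls H y × cen H y => (⟨s p.1 * p.2, mul_mem (hs _) (mem_cen.1 p.2.2).1⟩ : H))
      rintro ⟨x, c⟩ ⟨x', c'⟩ h
      have h3 : s x * (c : G) = s x' * c' := congrArg Subtype.val h
      have h4 : ∀ (x : cls H y) (c : cen H y), (x : G) = (s x * c) * y * (s x * c)⁻¹ := by
        intro x c
        have h5 := (mem_cen.1 c.2).2
        calc (x : G) = s x * y * (s x)⁻¹ := hs' x
          _ = s x * (y * c) * (c : G)⁻¹ * (s x)⁻¹ := by group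
          _ = s x * (c * y) * (c : G)⁻¹ * (s x)⁻¹ := by rw [h5]
          _ = (s x * c) * y * (s x * c)⁻¹ := by group
      have h5 : x = x' := Subtype.ext (by rw [h4 x c, h4 x' c', h3])
      subst h5
      exact Prod.ext rfl (Subtype.ext (mul_left_cancel h3))
    rwa [Nat.card_prod, Nat.card_coe_set_eq] at h2
  · apply card_le_fib (fun h => h * y * h⁻¹) (cls H y) (Set.toFinite _) (fun x hx => ⟨x, hx, rfl⟩)
    intro x hx z hz h
    refine mem_cen.2 ⟨mul_mem (inv_mem hx) hz, ?_⟩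
    have h' : x * y * x⁻¹ = z * y * z⁻¹ := h
    calc x⁻¹ * z * y = x⁻¹ * (z * y * z⁻¹) * z := by group
      _ = x⁻¹ * (x * y * x⁻¹) * z := by rw [h']
      _ = y * (x⁻¹ * z) := by group

end Gen

/-- Two commuting factors of type `L₃(F)` and a group `T` normalising both, containing and normalising the standard
Sylow 2-subgroups. -/
structure Data {G : Type*} [Group G] {F : Type*} [Field F] {A₁ A₂ : Subgroup G} (fr₁ : FrameL3 A₁ F)
    (fr₂ : FrameL3 A₂ F) (T : Subgroup G) : Prop where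
  odd₁ : Odd (Nat.card (Subgroup.center ↥A₁))
  odd₂ : Odd (Nat.card (Subgroup.center ↥A₂))
  perf₁ : _root_.commutator ↥A₁ = ⊤
  perf₂ : _root_.commutator ↥A₂ = ⊤
  comm : ∀ x ∈ A₁, ∀ y ∈ A₂, x * y = y * x
  norm₁ : T ≤ Subgroup.normalizer (A₁ : Set G)
  norm₂ : T ≤ Subgroup.normalizer (A₂ : Set G)
  U₁ : fr₁.U ≤ T
  U₂ : fr₂.U ≤ T
  ad₁ : Adapted fr₁ T
  ad₂ : Adapted fr₂ T
  inj : ∀ c ∈ T, c ∈ Subgroup.centralizer (A₁ : Set G) → c ∈ Subgroup.centralizer (A₂ : Set G) → c = 1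

variable {F : Type*} [Field F] {G : Type*} [Group G] {A₁ A₂ : Subgroup G}
  {fr₁ : FrameL3 A₁ F} {fr₂ : FrameL3 A₂ F} {T : Subgroup G}

namespace Data

theorem symm (d : Data fr₁ fr₂ T) : Data fr₂ fr₁ T :=
  ⟨d.odd₂, d.odd₁, d.perf₂, d.perf₁, fun x hx y hy => (d.comm y hy x hx).symm, d.norm₂, d.norm₁, d.U₂, d.U₁,
    d.ad₂, d.ad₁, fun c hc h1 h2 => d.inj c hc h2 h1⟩

theorem cent_of_mem₂ (d : Data fr₁ fr₂ T) {x : G} (hx : x ∈ A₂) : x ∈ Subgroup.centralizer (A₁ : Set G) := by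
  rw [Subgroup.mem_centralizer_iff]
  intro a ha
  exact d.comm a ha x hx

theorem cent_of_mem₁ (d : Data fr₁ fr₂ T) {x : G} (hx : x ∈ A₁) : x ∈ Subgroup.centralizer (A₂ : Set G) :=
  d.symm.cent_of_mem₂ hx

theorem U_comm (d : Data fr₁ fr₂ T) : ∀ v ∈ fr₁.U, ∀ w ∈ fr₂.U, v * w = w * v := fun v hv w hw =>
  d.comm v (fr₁.U_le hv) w (fr₂.U_le hw)

theorem U_disj (d : Data fr₁ fr₂ T) : ∀ x ∈ fr₁.U, x ∈ fr₂.U → x = 1 := fun x h1 h2 =>
  d.inj x (d.U₁ h1) (d.cent_of_mem₂ (fr₂.U_le h2)) (d.cent_of_mem₁ (fr₁.U_le h1))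

theorem mem_Uh (d : Data fr₁ fr₂ T) {x : G} : x ∈ fr₁.U ⊔ fr₂.U ↔ ∃ v ∈ fr₁.U, ∃ w ∈ fr₂.U, x = v * w :=
  (sup_facts d.U_comm d.U_disj).1 x

theorem Uh_le (d : Data fr₁ fr₂ T) : fr₁.U ⊔ fr₂.U ≤ T := sup_le d.U₁ d.U₂

variable [Finite F] [CharP F 2]

/-- elements of `A₂` have trivial type on `A₁` -/
theorem om_of_mem₂ (d : Data fr₁ fr₂ T) {x : G} (hx : x ∈ fr₂.U) : om fr₁ x = 1 :=
  om_centralizer fr₁ (d.cent_of_mem₂ (fr₂.U_le hx)) (d.norm₁ (d.U₂ hx))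

theorem om_Uh (d : Data fr₁ fr₂ T) {x : G} (hx : x ∈ fr₁.U ⊔ fr₂.U) : om fr₁ x = 1 := by
  obtain ⟨v, hv, w, hw, rfl⟩ := d.mem_Uh.1 hx
  rw [om_mul fr₁ (d.norm₁ (d.U₁ hv)) (d.norm₁ (d.U₂ hw)), om_mem fr₁ (fr₁.U_le hv), d.om_of_mem₂ hw, one_mul]

variable [Finite G]

theorem card_Uh (d : Data fr₁ fr₂ T) : Nat.card ↥(fr₁.U ⊔ fr₂.U) = Nat.card F ^ 6 := by
  rw [(sup_facts d.U_comm d.U_disj).2, fr₁.card_U d.odd₁, fr₂.card_U d.odd₂]
  ring

/-- **The kernel of the types is `U₁ U₂`.** -/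
theorem mem_Uh_of_om (d : Data fr₁ fr₂ T) {x : G} (hx : x ∈ T) (h1 : om fr₁ x = 1) (h2 : om fr₂ x = 1) :
    x ∈ fr₁.U ⊔ fr₂.U := by
  obtain ⟨v, hv, hvx⟩ := exists_of_om_one d.odd₁ d.perf₁ d.ad₁ d.norm₁ hx h1
  set c := v⁻¹ * x with hc
  have hcT : c ∈ T := mul_mem (inv_mem (d.U₁ hv)) hx
  have h3 : om fr₂ c = 1 := by
    rw [hc, om_mul fr₂ (inv_mem (d.norm₂ (d.U₁ hv))) (d.norm₂ hx), om_inv fr₂ (d.norm₂ (d.U₁ hv)),
      d.symm.om_of_mem₂ hv, h2, inv_one, one_mul]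
  obtain ⟨w, hw, hwc⟩ := exists_of_om_one d.odd₂ d.perf₂ d.ad₂ d.norm₂ hcT h3
  have h4 : w⁻¹ * c = 1 := d.inj _ (mul_mem (inv_mem (d.U₂ hw)) hcT)
    (mul_mem (inv_mem (d.cent_of_mem₂ (fr₂.U_le hw))) hvx) hwc
  rw [inv_mul_eq_one] at h4
  refine d.mem_Uh.2 ⟨v, hv, w, hw, ?_⟩
  rw [h4, hc]
  group

theorem mem_Uh_iff (d : Data fr₁ fr₂ T) {x : G} (hx : x ∈ T) :
    x ∈ fr₁.U ⊔ fr₂.U ↔ om fr₁ x = 1 ∧ om fr₂ x = 1 :=
  ⟨fun h => ⟨d.om_Uh h, d.symm.om_Uh (by rwa [sup_comm] at h)⟩, fun h => d.mem_Uh_of_om hx h.1 h.2⟩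

/-- `|C_{U₁U₂}(y)| = |C_{U₁}(y)| |C_{U₂}(y)|`. -/
theorem card_cen_Uh (d : Data fr₁ fr₂ T) {y : G} (hy : y ∈ T) :
    Nat.card (cen (fr₁.U ⊔ fr₂.U) y) = Nat.card (CU fr₁ y) * Nat.card (CU fr₂ y) := by
  rw [← (sup_facts (V := CU fr₁ y) (W := CU fr₂ y)
    (fun v hv w hw => d.U_comm v (mem_CU.1 hv).1 w (mem_CU.1 hw).1)
    (fun x h1 h2 => d.U_disj x (mem_CU.1 h1).1 (mem_CU.1 h2).1)).2]
  have hE : cen (fr₁.U ⊔ fr₂.U) y = CU fr₁ y ⊔ CU fr₂ y := by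
    apply le_antisymm
    · intro x hx
      obtain ⟨hx, hxy⟩ := mem_cen.1 hx
      obtain ⟨v, hv, w, hw, rfl⟩ := d.mem_Uh.1 hx
      have h1 := norm_U d.odd₁ d.ad₁ hy v hv
      have h2 := norm_U d.odd₂ d.ad₂ hy w hw
      have h3 : v⁻¹ * (y * v * y⁻¹) = w * (y * w * y⁻¹)⁻¹ := by
        have h4 : (y * v * y⁻¹) * (y * w * y⁻¹) = v * w := by
          calc (y * v * y⁻¹) * (y * w * y⁻¹) = (y * (v * w)) * y⁻¹ := by group
            _ = v * w := by rw [← hxy, mul_inv_cancel_right]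
        rw [eq_mul_inv_iff_mul_eq, mul_assoc, h4]
        group
      have h4 : v⁻¹ * (y * v * y⁻¹) = 1 := d.U_disj _ (mul_mem (inv_mem hv) h1) (by
        rw [h3]; exact mul_mem hw (inv_mem h2))
      rw [h4] at h3
      rw [inv_mul_eq_one, eq_mul_inv_iff_mul_eq] at h4
      have h5 := mul_inv_eq_one.1 h3.symm
      rw [eq_mul_inv_iff_mul_eq] at h5
      exact mul_mem (Subgroup.mem_sup_left (mem_CU.2 ⟨hv, h4.symm⟩)) (Subgroup.mem_sup_right (mem_CU.2 ⟨hw, h5.symm⟩))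
    · refine sup_le ?_ ?_
      · intro v hv
        obtain ⟨hv, h⟩ := mem_CU.1 hv
        exact mem_cen.2 ⟨Subgroup.mem_sup_left hv, h.symm⟩
      · intro v hv
        obtain ⟨hv, h⟩ := mem_CU.1 hv
        exact mem_cen.2 ⟨Subgroup.mem_sup_right hv, h.symm⟩
  rw [hE]

/-- an element `y v₁ v₂` whose square is trivial -/
theorem sq_cent (d : Data fr₁ fr₂ T) {y v w : G} (hy : y ∈ T) (hv : v ∈ fr₁.U) (hw : w ∈ fr₂.U)
    (h : y * (v * w) * (y * (v * w)) = 1) : y * v * (y * v) ∈ Subgroup.centralizer (A₁ : Set G) := by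
  have h1 : y * w * y⁻¹ ∈ fr₂.U := norm_U d.odd₂ d.ad₂ hy w hw
  have h2 : y * (v * w) = (y * w * y⁻¹) * (y * v) := by
    calc y * (v * w) = y * (w * v) := by rw [d.U_comm v hv w hw]
      _ = (y * w * y⁻¹) * (y * v) := by group
  have h3 : y * v * (y * v) = (y * w * y⁻¹)⁻¹ * (y * (v * w) * (y * (v * w))) * w⁻¹ := by
    rw [show y * (v * w) * (y * (v * w)) = ((y * w * y⁻¹) * (y * v)) * (y * (v * w)) by rw [← h2]]
    group
  rw [h3, h, mul_one]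
  exact mul_mem (inv_mem (d.cent_of_mem₂ (fr₂.U_le h1))) (inv_mem (d.cent_of_mem₂ (fr₂.U_le hw)))

/-- a `T`-conjugate of `y` is in `y U₁ U₂` -/
theorem conj_form (d : Data fr₁ fr₂ T) {y s : G} (hy : y ∈ T) (hs : s ∈ T) :
    ∃ v ∈ fr₁.U, ∃ w ∈ fr₂.U, s * y * s⁻¹ = y * (v * w) := by
  have hx : s * y * s⁻¹ ∈ T := mul_mem (mul_mem hs hy) (inv_mem hs)
  have h1 : y⁻¹ * (s * y * s⁻¹) ∈ fr₁.U ⊔ fr₂.U := by
    apply d.mem_Uh_of_om (mul_mem (inv_mem hy) hx)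
    · rw [om_mul fr₁ (inv_mem (d.norm₁ hy)) (d.norm₁ hx), om_conj fr₁ (d.norm₁ hy) (d.norm₁ hs),
        om_inv fr₁ (d.norm₁ hy), inv_mul_cancel]
    · rw [om_mul fr₂ (inv_mem (d.norm₂ hy)) (d.norm₂ hx), om_conj fr₂ (d.norm₂ hy) (d.norm₂ hs),
        om_inv fr₂ (d.norm₂ hy), inv_mul_cancel]
  obtain ⟨v, hv, w, hw, h2⟩ := d.mem_Uh.1 h1
  refine ⟨v, hv, w, hw, ?_⟩
  rw [← h2]
  group

/-- **All involutions over an outer-outer type are conjugate under `U₁U₂`.** -/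
theorem conj_Uh (d : Data fr₁ fr₂ T) {y v w : G} (hy : y ∈ T) (hyy : y * y = 1) (h1 : om fr₁ y ≠ 1)
    (h2 : om fr₂ y ≠ 1) (hv : v ∈ fr₁.U) (hw : w ∈ fr₂.U) (h : y * (v * w) * (y * (v * w)) = 1) :
    ∃ x ∈ fr₁.U ⊔ fr₂.U, y * (v * w) = x * y * x⁻¹ := by
  have e1 := d.sq_cent hy hv hw h
  have e2 := d.symm.sq_cent hy hw hv (by rw [← d.U_comm v hv w hw]; exact h)
  obtain ⟨x1, hx1, f1⟩ := conj_out d.odd₁ d.perf₁ d.norm₁ d.ad₁ hy (by rw [hyy]; exact one_mem _) h1 hv e1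
  obtain ⟨x2, hx2, f2⟩ := conj_out d.odd₂ d.perf₂ d.norm₂ d.ad₂ hy (by rw [hyy]; exact one_mem _) h2 hw e2
  refine ⟨x1 * x2, mul_mem (Subgroup.mem_sup_left hx1) (Subgroup.mem_sup_right hx2), ?_⟩
  calc y * (v * w) = (y * v) * w := by group
    _ = x1 * y * x1⁻¹ * w := by rw [f1]
    _ = x1 * y * (x1⁻¹ * w) := by group
    _ = x1 * y * (w * x1⁻¹) := by rw [d.U_comm _ (inv_mem hx1) w hw]
    _ = x1 * (y * w) * x1⁻¹ := by group
    _ = x1 * (x2 * y * x2⁻¹) * x1⁻¹ := by rw [f2]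
    _ = x1 * x2 * y * (x1 * x2)⁻¹ := by group

/-- **The order of the centraliser, both types nontrivial.** -/
theorem card_cen_out (d : Data fr₁ fr₂ T) {y : G} (hy : y ∈ T) (hyy : y * y = 1) (h1 : om fr₁ y ≠ 1)
    (h2 : om fr₂ y ≠ 1) :
    Nat.card T * (Nat.card (CU fr₁ y) * Nat.card (CU fr₂ y)) = Nat.card (cen T y) * Nat.card F ^ 6 := by
  have h3 : cls T y = cls (fr₁.U ⊔ fr₂.U) y := by
    apply Set.Subset.antisymm
    · rintro _ ⟨s, hs, rfl⟩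
      obtain ⟨v, hv, w, hw, h4⟩ := d.conj_form hy hs
      have h5 : y * (v * w) * (y * (v * w)) = 1 := by
        rw [← h4]
        calc s * y * s⁻¹ * (s * y * s⁻¹) = s * (y * y) * s⁻¹ := by group
          _ = 1 := by rw [hyy]; group
      obtain ⟨x, hx, h6⟩ := d.conj_Uh hy hyy h1 h2 hv hw h5
      exact ⟨x, hx, h4.trans h6⟩
    · rintro _ ⟨s, hs, rfl⟩
      exact ⟨s, d.Uh_le hs, rfl⟩
  have h4 := card_cls T y
  have h5 := card_cls (fr₁.U ⊔ fr₂.U) y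
  rw [← h3, d.card_cen_Uh hy, d.card_Uh] at h5
  rw [← h4, ← h5]
  ring

/-- **The order of the centraliser, first type trivial, second nontrivial.** -/
theorem card_cen_in (d : Data fr₁ fr₂ T) {y : G} (hy : y ∈ T) (hyy : y * y = 1) (h1 : om fr₁ y = 1)
    (h2 : om fr₂ y ≠ 1) :
    Nat.card T * (Nat.card F * Nat.card (CU fr₂ y)) < 2 * Nat.card (cen T y) * Nat.card F ^ 6 := by
  classical
  obtain ⟨e, he, hec⟩ := exists_of_om_one d.odd₁ d.perf₁ d.ad₁ d.norm₁ hy h1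
  set c := e⁻¹ * y with hc
  have hyc : y = e * c := by rw [hc]; group
  -- the class of `y` injects into (involutions of `U₁`) × (class of `y` under `U₂`)
  have key : ∀ x ∈ cls T y, ∃ p : G × G, (p.1 ∈ fr₁.U ∧ p.1 * p.1 = 1) ∧ p.2 ∈ cls fr₂.U y ∧
      x = y * ((e⁻¹ * p.1) * (y⁻¹ * p.2)) := by
    rintro _ ⟨s, hs, rfl⟩
    obtain ⟨v, hv, w, hw, h4⟩ := d.conj_form hy hs
    have h5 : y * (v * w) * (y * (v * w)) = 1 := by
      rw [← h4]
      calc s * y * s⁻¹ * (s * y * s⁻¹) = s * (y * y) * s⁻¹ := by group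
        _ = 1 := by rw [hyy]; group
    have e1 := d.sq_cent hy hv hw h5
    have e2 := d.symm.sq_cent hy hw hv (by rw [← d.U_comm v hv w hw]; exact h5)
    obtain ⟨x2, hx2, f2⟩ := conj_out d.odd₂ d.perf₂ d.norm₂ d.ad₂ hy (by rw [hyy]; exact one_mem _) h2 hw e2
    refine ⟨(e * v, y * w), ⟨mul_mem he hv, ?_⟩, ⟨x2, hx2, f2⟩, ?_⟩
    · apply eq_one_of_centralizer d.odd₁ (mul_mem (mul_mem he hv) (mul_mem he hv))
      have hcv := Subgroup.mem_centralizer_iff.1 hec _ (fr₁.U_le (mul_mem he hv))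
      have hcv' := Subgroup.mem_centralizer_iff.1 hec _ (fr₁.U_le hv)
      have e3 : y * v * (y * v) = (e * v * (e * v)) * (c * c) := by
        rw [hyc]
        calc e * c * v * (e * c * v) = e * (c * v) * (e * (c * v)) := by group
          _ = e * (v * c) * (e * (v * c)) := by rw [hcv']
          _ = e * v * (c * (e * v)) * c := by group
          _ = e * v * ((e * v) * c) * c := by rw [hcv]
          _ = (e * v * (e * v)) * (c * c) := by group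
      have e4 : e * v * (e * v) = (y * v * (y * v)) * (c * c)⁻¹ := by rw [e3]; group
      show e * v * (e * v) ∈ _
      rw [e4]
      exact mul_mem e1 (inv_mem (mul_mem hec hec))
    · rw [h4]
      show y * (v * w) = y * ((e⁻¹ * (e * v)) * (y⁻¹ * (y * w)))
      group
  have h3 : (cls T y).ncard ≤ {v : G | v ∈ fr₁.U ∧ v * v = 1}.ncard * (cls fr₂.U y).ncard := by
    rw [← Set.ncard_prod]
    choose! f hf using key
    apply Set.ncard_le_ncard_of_injOn f (fun x hx => Set.mem_prod.2 ⟨(hf x hx).1, (hf x hx).2.1⟩)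
    · intro x hx x' hx' h
      rw [(hf x hx).2.2, (hf x' hx').2.2, h]
  have h4 := card_cls T y
  have h5 := card_cls fr₂.U y
  have h6 : cen fr₂.U y = CU fr₂ y := rfl
  rw [h6, fr₂.card_U d.odd₂] at h5
  have h7 := card_sq_one (fr := fr₁) d.odd₁
  set N := {v : G | v ∈ fr₁.U ∧ v * v = 1}.ncard with hN
  have h8 : 0 < Nat.card (cen T y) := Nat.card_pos
  have h9 : 0 < Nat.card F := Nat.card_pos
  calc Nat.card T * (Nat.card F * Nat.card (CU fr₂ y))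
      = (cls T y).ncard * Nat.card (cen T y) * (Nat.card F * Nat.card (CU fr₂ y)) := by rw [h4]
    _ ≤ (N * (cls fr₂.U y).ncard) * Nat.card (cen T y) * (Nat.card F * Nat.card (CU fr₂ y)) :=
        Nat.mul_le_mul_right _ (Nat.mul_le_mul_right _ h3)
    _ = N * Nat.card (cen T y) * Nat.card F * ((cls fr₂.U y).ncard * Nat.card (CU fr₂ y)) := by ring
    _ = N * (Nat.card (cen T y) * Nat.card F ^ 4) := by rw [h5]; ring
    _ < 2 * Nat.card F ^ 2 * (Nat.card (cen T y) * Nat.card F ^ 4) :=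
        Nat.mul_lt_mul_of_pos_right h7 (by positivity)
    _ = 2 * Nat.card (cen T y) * Nat.card F ^ 6 := by ring

end Data

end Cfsg.Agent.StdRank2.L3W6.Two
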