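import Mathlib
import Cfsg.Agent.StdRank2.L3W6.Two

/-!
# The order and rank table (type `L₃(q)`, wreath case)

`y₀ ∈ T` an involution of type `(s, s)`, `s ≠ 1`, with `s = (1, -1)` unless no element of `T` has type
`((1, -1), (1, -1))`; `y = g⁻¹ y₀ g ∈ T` of type `(a, b)`, `a ≠ b`.  Then `C_T(y₀) ^ g ≠ C_T(y)`.
-/

set_option autoImplicit false

namespace Cfsg.Agent.StdRank2.L3W6.Tab

open Cfsg.Agent.StdRank2.OutL3Rel Cfsg.Agent.StdRank2.OutField Cfsg.Agent.StdRank2.OutL3Inv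
open Cfsg.Agent.StdRank2.OutL3Je Cfsg.Agent.StdRank2.OutL3JeMain Cfsg.Agent.StdRank2.L3W6.Types
open Cfsg.Agent.StdRank2.L3W6.Side Cfsg.Agent.StdRank2.L3W6.Two
open Cfsg.Agent.StdRank2.OutSplit (cen mem_cen card_conj)

variable {F : Type*} [Field F] [Finite F] [CharP F 2] {G : Type*} [Group G] [Finite G] {A₁ A₂ : Subgroup G}
  {fr₁ : FrameL3 A₁ F} {fr₂ : FrameL3 A₂ F} {T : Subgroup G}

/-- graph type -/
def gam (F : Type*) [Field F] : (F ≃+* F) × ℤˣ := (1, -1)

omit [Finite F] [CharP F 2] in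
theorem gam_ne_one : gam F ≠ 1 := fun h => absurd (Prod.mk.inj h).2 (by decide)

omit [Finite F] [CharP F 2] in
theorem gam_mul_gam : gam F * gam F = 1 := Prod.ext (mul_one _) (show (-1 : ℤˣ) * (-1) = 1 by decide)

omit [Finite F] [CharP F 2] [Finite G] in
theorem card_inf_inf (d : Data fr₁ fr₂ T) {X : Subgroup G} (hX : X ≤ T) :
    Nat.card ↥(X ⊓ Subgroup.centralizer (A₁ : Set G) ⊓ Subgroup.centralizer (A₂ : Set G)) = 1 := by
  rw [Subgroup.card_eq_one, eq_bot_iff]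
  rintro x ⟨⟨hx, h1⟩, h2⟩
  rw [Subgroup.mem_bot]
  exact d.inj x (hX hx) h1 h2

/-- rank bound at `(γ, γ)` -/
theorem rank_gam (d : Data fr₁ fr₂ T) (hq : 4 ≤ Nat.card F) {y : G} (hy : y ∈ T) (h1 : om fr₁ y = gam F)
    (h2 : om fr₂ y = gam F) {X : Subgroup G} (hXT : X ≤ T) (hX : El X) (hc : ∀ x ∈ X, y * x = x * y) :
    Nat.card X ≤ 4 * Nat.card F ^ 2 := by
  have e1 := rank_side d.odd₁ d.perf₁ d.norm₁ d.ad₁ hq hXT hX hy h1 hc
  have e2 := rank_side d.odd₂ d.perf₂ d.norm₂ d.ad₂ hq (X := X ⊓ Subgroup.centralizer (A₁ : Set G))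
    (inf_le_left.trans hXT) (hX.mono inf_le_left) hy h2 (fun x hx => hc x hx.1)
  rw [card_inf_inf d hXT, mul_one] at e2
  calc Nat.card X ≤ 2 * Nat.card F * (2 * Nat.card F) := e1.trans (Nat.mul_le_mul_left _ e2)
    _ = 4 * Nat.card F ^ 2 := by ring

/-- elementary abelian subgroups of `U₁U₂` commuting with `y` of type `(s, s')` -/
theorem rank_Uh (d : Data fr₁ fr₂ T) {y : G} (hy : y ∈ T) (hyy : y * y = 1) (h1 : om fr₁ y ≠ 1)
    (h2 : om fr₂ y ≠ 1) {X : Subgroup G} (hXT : X ≤ T) (hX : El X) (hc : ∀ x ∈ X, y * x = x * y)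
    (hX1 : ∀ x ∈ X, om fr₁ x = 1) (hX2 : ∀ x ∈ X, om fr₂ x = 1) :
    Nat.card X ≤ mm (om fr₁ y) * mm (om fr₂ y) := by
  have hs1 : om fr₁ y * om fr₁ y = 1 := by rw [← om_mul fr₁ (d.norm₁ hy) (d.norm₁ hy), hyy, om_one]
  have hs2 : om fr₂ y * om fr₂ y = 1 := by rw [← om_mul fr₂ (d.norm₂ hy) (d.norm₂ hy), hyy, om_one]
  have e1 := card_le_proj (fr := fr₁) (X := X) (fun x hx =>
    exists_of_om_one d.odd₁ d.perf₁ d.ad₁ d.norm₁ (hXT hx) (hX1 x hx))
  have e2 := card_le_proj (fr := fr₂) (X := X ⊓ Subgroup.centralizer (A₁ : Set G)) (fun x hx =>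
    exists_of_om_one d.odd₂ d.perf₂ d.ad₂ d.norm₂ (hXT hx.1) (hX2 x hx.1))
  rw [card_inf_inf d hXT, mul_one] at e2
  have f1 := card_le_mm d.odd₁ d.norm₁ d.ad₁ hy hs1 h1 (P := proj (fr := fr₁) X) proj_le (el_proj d.odd₁ hX)
    (proj_comm d.odd₁ (d.norm₁ hy) (norm_U d.odd₁ d.ad₁ hy) hc)
  have f2 := card_le_mm d.odd₂ d.norm₂ d.ad₂ hy hs2 h2
    (P := proj (fr := fr₂) (X ⊓ Subgroup.centralizer (A₁ : Set G))) proj_le
    (el_proj d.odd₂ (hX.mono inf_le_left))
    (proj_comm d.odd₂ (d.norm₂ hy) (norm_U d.odd₂ d.ad₂ hy) (fun x hx => hc x hx.1))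
  exact e1.trans (Nat.mul_le_mul f1 (e2.trans f2))

/-- **Lower bound for the rank at `(1, s)`.** -/
theorem exists_rank_in (d : Data fr₁ fr₂ T) {y : G} (hy : y ∈ T) (hyy : y * y = 1) (h1 : om fr₁ y = 1)
    (h2 : om fr₂ y ≠ 1) : ∃ X : Subgroup G, X ≤ cen T y ∧ El X ∧
      Nat.card X = 2 * Nat.card F ^ 2 * mm (om fr₂ y) := by
  obtain ⟨e, he, hec⟩ := exists_of_om_one d.odd₁ d.perf₁ d.ad₁ d.norm₁ hy h1
  set c := e⁻¹ * y with hc
  have hyc : y = e * c := by rw [hc]; group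
  have hce : c * e = e * c := (Subgroup.mem_centralizer_iff.1 hec _ (fr₁.U_le he)).symm
  have hee : e * e = 1 := by
    apply eq_one_of_centralizer d.odd₁ (mul_mem he he)
    have e1 : e * e = (c * c)⁻¹ := by
      have : e * e * (c * c) = 1 := by
        calc e * e * (c * c) = e * (e * c) * c := by group
          _ = e * (c * e) * c := by rw [hce]
          _ = e * c * (e * c) := by group
          _ = 1 := by rw [← hyc, hyy]
      exact eq_inv_of_mul_eq_one_left this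
    rw [e1]
    exact inv_mem (mul_mem hec hec)
  obtain ⟨V, hVU, hV, heV, hVc⟩ := exists_el_of_sq (fr := fr₁) d.odd₁ he hee
  obtain ⟨W, hWU, hW, hWc⟩ := exists_mm d.odd₂ d.perf₂ d.norm₂ d.ad₂ hy (by rw [hyy]; exact one_mem _) h2
  have hVy : ∀ v ∈ V, y * v = v * y := by
    intro v hv
    have h3 := Subgroup.mem_centralizer_iff.1 hec _ (fr₁.U_le (hVU hv))
    rw [hyc]
    calc e * c * v = e * (c * v) := by group
      _ = e * (v * c) := by rw [h3]
      _ = (e * v) * c := by group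
      _ = (v * e) * c := by rw [hV.comm e heV v hv]
      _ = v * (e * c) := by group
  have hWy : ∀ w ∈ W, y * w = w * y := fun w hw => (mem_CU.1 (hWU hw)).2
  have hVW : ∀ v ∈ V, ∀ w ∈ W, v * w = w * v := fun v hv w hw => d.U_comm v (hVU hv) w (mem_CU.1 (hWU hw)).1
  have hdVW : ∀ x ∈ V, x ∈ W → x = 1 := fun x h3 h4 => d.U_disj x (hVU h3) (mem_CU.1 (hWU h4)).1
  obtain ⟨m1, c1⟩ := sup_facts hVW hdVW
  have hVWy : ∀ x ∈ V ⊔ W, x * y = y * x := by
    intro x hx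
    obtain ⟨v, hv, w, hw, rfl⟩ := (m1 x).1 hx
    calc v * w * y = v * (w * y) := by group
      _ = v * (y * w) := by rw [hWy w hw]
      _ = (v * y) * w := by group
      _ = (y * v) * w := by rw [hVy v hv]
      _ = y * (v * w) := by group
  have hVWU : V ⊔ W ≤ fr₁.U ⊔ fr₂.U := sup_le_sup hVU (fun w hw => (mem_CU.1 (hWU hw)).1)
  have hzy : ∀ z ∈ Subgroup.zpowers y, z = 1 ∨ z = y := by
    rintro x ⟨n, rfl⟩
    rcases Int.even_or_odd' n with ⟨k, rfl | rfl⟩
    · left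
      show y ^ (2 * k) = 1
      rw [zpow_mul, zpow_two, hyy, one_zpow]
    · right
      show y ^ (2 * k + 1) = y
      rw [zpow_add, zpow_mul, zpow_two, hyy, one_zpow, one_mul, zpow_one]
  have hyU : y ∉ V ⊔ W := fun h => h2 ((d.mem_Uh_iff hy).1 (hVWU h)).2
  have hcz : ∀ x ∈ V ⊔ W, ∀ z ∈ Subgroup.zpowers y, x * z = z * x := by
    intro x hx z hz
    rcases hzy z hz with rfl | rfl
    · rw [mul_one, one_mul]
    · exact hVWy x hx
  have hdz : ∀ x ∈ V ⊔ W, x ∈ Subgroup.zpowers y → x = 1 := by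
    intro x hx hz
    rcases hzy x hz with rfl | rfl
    · rfl
    · exact absurd hx hyU
  obtain ⟨m2, c2⟩ := sup_facts hcz hdz
  refine ⟨(V ⊔ W) ⊔ Subgroup.zpowers y, ?_, El.sup (El.sup hV hW hVW hdVW) (El.zpowers hyy) hcz hdz, ?_⟩
  · refine sup_le ?_ ?_
    · intro x hx
      exact mem_cen.2 ⟨d.Uh_le (hVWU hx), hVWy x hx⟩
    · rw [Subgroup.zpowers_le]
      exact mem_cen.2 ⟨hy, rfl⟩
  · rw [c2, c1, hVc, hWc, card_zpowers_invol hyy (fun h => h2 (by rw [h, om_one]))]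
    ring

omit [Finite G] in
/-- transport of the rank -/
theorem exists_transport {y₀ g : G} (hR : (cen T y₀).map (MulAut.conj g⁻¹).toMonoidHom = cen T (g⁻¹ * y₀ * g))
    {X : Subgroup G} (hX : X ≤ cen T (g⁻¹ * y₀ * g)) (hEl : El X) :
    ∃ Y : Subgroup G, Y ≤ cen T y₀ ∧ El Y ∧ Nat.card Y = Nat.card X := by
  refine ⟨X.map (MulAut.conj g).toMonoidHom, ?_, hEl.map g, Subgroup.card_map_of_injective (MulAut.conj g).injective⟩
  rintro _ ⟨x, hx, rfl⟩
  have h1 := hX hx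
  rw [← hR] at h1
  obtain ⟨z, hz, rfl⟩ := h1
  have : (MulAut.conj g).toMonoidHom ((MulAut.conj g⁻¹).toMonoidHom z) = z := by
    show g * (g⁻¹ * z * g⁻¹⁻¹) * g⁻¹ = z
    group
  rw [this]
  exact hz

/-- the case of the graph type -/
theorem tab_gam (d : Data fr₁ fr₂ T) (hq : 4 ≤ Nat.card F) {y₀ g : G} (hy₀ : y₀ ∈ T) (hyy : y₀ * y₀ = 1)
    (h1 : om fr₁ y₀ = gam F) (h2 : om fr₂ y₀ = gam F) (hy : g⁻¹ * y₀ * g ∈ T)
    (hne : om fr₁ (g⁻¹ * y₀ * g) ≠ om fr₂ (g⁻¹ * y₀ * g)) (hb : om fr₂ (g⁻¹ * y₀ * g) ≠ 1) :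
    (cen T y₀).map (MulAut.conj g⁻¹).toMonoidHom ≠ cen T (g⁻¹ * y₀ * g) := by
  intro hR
  set y := g⁻¹ * y₀ * g with hy_def
  have hyy' : y * y = 1 := by
    calc y * y = g⁻¹ * (y₀ * y₀) * g := by rw [hy_def]; group
      _ = 1 := by rw [hyy]; group
  have hcard : Nat.card (cen T y₀) = Nat.card (cen T y) := by
    rw [← hR, card_conj]
  have e0 := d.card_cen_out hy₀ hyy (by rw [h1]; exact gam_ne_one) (by rw [h2]; exact gam_ne_one)
  rw [card_CU_gam d.odd₁ d.perf₁ d.norm₁ d.ad₁ hy₀ (by rw [hyy]; exact one_mem _) h1,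
    card_CU_gam d.odd₂ d.perf₂ d.norm₂ d.ad₂ hy₀ (by rw [hyy]; exact one_mem _) h2, hcard] at e0
  have hT : 0 < Nat.card T := Nat.card_pos
  have hC : 0 < Nat.card (cen T y) := Nat.card_pos
  set q := Nat.card F with hqdef
  by_cases ha : om fr₁ y = 1
  · -- first type trivial
    by_cases hbg : om fr₂ y = gam F
    · -- rank argument
      obtain ⟨X, hX, hEl, hXc⟩ := exists_rank_in d hy hyy' ha hb
      obtain ⟨Y, hY, hYEl, hYc⟩ := exists_transport hR hX hEl
      have e1 := rank_gam d hq hy₀ h1 h2 (X := Y) (fun x hx => (mem_cen.1 (hY hx)).1) hYEl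
        (fun x hx => (mem_cen.1 (hY hx)).2.symm)
      have e2 : mm (om fr₂ y) = q := by
        rw [hbg, gam, mm, if_neg (fun h => h.1 rfl)]
      rw [hYc, hXc, e2] at e1
      have e3 : 2 * q ^ 2 * q ≤ 2 * q ^ 2 * 2 := by linarith
      have e4 := Nat.le_of_mul_le_mul_left e3 (by positivity)
      omega
    · obtain ⟨r, hr, hcr⟩ := card_CU_out d.odd₂ d.perf₂ d.norm₂ d.ad₂ hy (by rw [hyy']; exact one_mem _) hb hbg
      have e1 := d.card_cen_in hy hyy' ha hb
      rw [hcr] at e1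
      have hr2 : 2 ≤ r := by
        by_contra h
        have : r ≤ 1 := by omega
        have : r * r ≤ 1 * 1 := Nat.mul_le_mul this this
        omega
      have e2 : Nat.card T * (q * r ^ 3) < 2 * (Nat.card T * (q * q)) := by
        calc Nat.card T * (q * r ^ 3) < 2 * Nat.card (cen T y) * q ^ 6 := e1
          _ = 2 * (Nat.card T * (q * q)) := by rw [e0]; ring
      have e3 : Nat.card T * (q * (r * r)) * r < Nat.card T * (q * (r * r)) * 2 := by
        calc Nat.card T * (q * (r * r)) * r = Nat.card T * (q * r ^ 3) := by ring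
          _ < 2 * (Nat.card T * (q * q)) := e2
          _ = Nat.card T * (q * (r * r)) * 2 := by rw [show r * r = q from hr]; ring
      have e4 := Nat.lt_of_mul_lt_mul_left e3
      omega
  · have e1 := d.card_cen_out hy hyy' ha hb
    have e2 : Nat.card T * (Nat.card (CU fr₁ y) * Nat.card (CU fr₂ y)) = Nat.card T * (q * q) := by
      rw [e1, e0]
    have e3 := Nat.eq_of_mul_eq_mul_left hT e2
    by_cases hag : om fr₁ y = gam F
    · have hbg : om fr₂ y ≠ gam F := fun h => hne (by rw [hag, h])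
      obtain ⟨r, hr, hcr⟩ := card_CU_out d.odd₂ d.perf₂ d.norm₂ d.ad₂ hy (by rw [hyy']; exact one_mem _) hb hbg
      rw [card_CU_gam d.odd₁ d.perf₁ d.norm₁ d.ad₁ hy (by rw [hyy']; exact one_mem _) hag, hcr] at e3
      have e4 := Nat.eq_of_mul_eq_mul_left (by omega : 0 < q) e3
      have hr0 : 0 < r * r := by omega
      have e5 : r * r * r = r * r * 1 := by
        calc r * r * r = r ^ 3 := by ring
          _ = r * r * 1 := by rw [e4, hr, mul_one]
      have e6 := Nat.eq_of_mul_eq_mul_left hr0 e5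
      subst e6
      omega
    · obtain ⟨r, hr, hcr⟩ := card_CU_out d.odd₁ d.perf₁ d.norm₁ d.ad₁ hy (by rw [hyy']; exact one_mem _) ha hag
      have hr2 : 2 ≤ r := by
        by_contra h
        have : r ≤ 1 := by omega
        have : r * r ≤ 1 * 1 := Nat.mul_le_mul this this
        omega
      have hge : q ≤ Nat.card (CU fr₂ y) := by
        by_cases hbg : om fr₂ y = gam F
        · rw [card_CU_gam d.odd₂ d.perf₂ d.norm₂ d.ad₂ hy (by rw [hyy']; exact one_mem _) hbg]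
        · obtain ⟨r', hr', hcr'⟩ := card_CU_out d.odd₂ d.perf₂ d.norm₂ d.ad₂ hy (by rw [hyy']; exact one_mem _) hb hbg
          rw [hcr', hqdef, ← hr']
          have : 1 ≤ r' := by
            by_contra h
            have : r' = 0 := by omega
            subst this
            omega
          calc r' * r' = r' * r' * 1 := by ring
            _ ≤ r' * r' * r' := Nat.mul_le_mul_left _ this
            _ = r' ^ 3 := by ring
      rw [hcr] at e3
      have e4 : q * (q * 2) ≤ q * q := by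
        calc q * (q * 2) ≤ q * (q * r) := Nat.mul_le_mul_left _ (Nat.mul_le_mul_left _ hr2)
          _ = r ^ 3 * q := by rw [show q = r * r from hr.symm]; ring
          _ ≤ r ^ 3 * Nat.card (CU fr₂ y) := Nat.mul_le_mul_left _ hge
          _ = q * q := e3
      have e5 := Nat.le_of_mul_le_mul_left e4 (by omega)
      omega

end Cfsg.Agent.StdRank2.L3W6.Tab
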